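import Cfsg.Agent.Lib.SU3Pres.Field
import Cfsg.Agent.Lib.PresentSL2.Target
import Cfsg.Agent.Lib.BoundedPres.Basic

/-!
Generators of `SU₃(q)`, the central elements of the unipotent group, and equations between words.
-/

set_option autoImplicit false
set_option linter.unusedSectionVars false

namespace CfsgLib.SU3Pres

open Polynomial
open CfsgLib.PresentSL2 CfsgLib.BoundedPres

variable {F : Type*} [Field F] [Fintype F] {σ : F →+* F}

/-- The relator of an equation. -/
def eqw (A B : FreeGroup (Fin 3)) : FreeGroup (Fin 3) := A * B⁻¹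

theorem lift_eqw {G : Type*} [Group G] (f : Fin 3 → G) (A B : FreeGroup (Fin 3)) :
    FreeGroup.lift f (eqw A B) = 1 ↔ FreeGroup.lift f A = FreeGroup.lift f B := by
  rw [eqw, map_mul, map_inv, mul_inv_eq_one]

/-- Having a given first parameter. -/
def HasA (m : J3 σ) (a : F) : Prop := ∃ b, IsU m a b

namespace HasA

variable {m n : J3 σ} {a c : F}

theorem one : HasA (1 : J3 σ) (0 : F) := ⟨0, IsU.one⟩

theorem mul : HasA m a → HasA n c → HasA (m * n) (a + c)
  | ⟨_, h⟩, ⟨_, h'⟩ => ⟨_, h.mul h'⟩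

theorem inv (hσ : ∀ a, σ (σ a) = a) : HasA m a → HasA m⁻¹ (-a)
  | ⟨_, h⟩ => ⟨_, h.inv hσ⟩

theorem unique : HasA m a → HasA m c → a = c
  | ⟨_, h⟩, ⟨_, h'⟩ => (h.unique h').1

theorem pow (h : HasA m a) : ∀ r : ℕ, HasA (m ^ r) (r • a)
  | 0 => by rw [pow_zero, zero_nsmul]; exact one
  | r + 1 => by rw [pow_succ, succ_nsmul]; exact (pow h r).mul h

theorem zpow (hσ : ∀ a, σ (σ a) = a) (h : HasA m a) : ∀ r : ℤ, HasA (m ^ r) (r • a)
  | (r : ℕ) => by rw [zpow_natCast, natCast_zsmul]; exact h.pow r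
  | Int.negSucc r => by rw [zpow_negSucc, negSucc_zsmul]; exact (h.pow (r + 1)).inv hσ

theorem ev (hσ : ∀ a, σ (σ a) = a) {c u : J3 σ} {x : F} (h : ∀ l, HasA (cj c u l) (x ^ l)) (Q : ℤ[X]) :
    HasA (ev c u Q) (aeval x Q) := by
  rw [PresentSL2.ev, aeval_eq_sum_range]
  generalize Q.natDegree + 1 = N
  induction N with
  | zero => simpa using one
  | succ N ih =>
    rw [List.range_succ, List.map_append, List.prod_append, Finset.sum_range_succ]
    refine ih.mul ?_
    simpa using (h N).zpow hσ (Q.coeff N)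

end HasA

/-- Generators: a unipotent element, the torus element and the exchanging element. -/
structure Gens (P : Par σ) where
  u : J3 σ
  h : J3 σ
  t : J3 σ
  z1 : F
  hu : IsU u 1 z1
  hh : IsH h P.g
  ht : IsT t

theorem exists_gens (P : Par σ) : Nonempty (Gens P) := by
  have hv : ∃ b, Valid σ (1 : F) b := by
    unfold Valid
    simp only [map_one, mul_one]
    by_cases h2 : (2 : F) = 0
    · have ht : lam σ P.g + σ (lam σ P.g) ≠ 0 := by
        have := P.delta_ne
        rwa [Par.delta, show lam σ P.g - σ (lam σ P.g) = lam σ P.g + σ (lam σ P.g) by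
          linear_combination -(σ (lam σ P.g)) * h2] at this
      refine ⟨-(lam σ P.g / (lam σ P.g + σ (lam σ P.g))), ?_⟩
      rw [map_neg, map_div₀, map_add, P.hσ, add_comm (σ (lam σ P.g)) (lam σ P.g)]
      field_simp
      ring
    · refine ⟨-(1 / 2), ?_⟩
      rw [map_neg, map_div₀, map_one, map_ofNat]
      field_simp
      ring
  obtain ⟨b, hb⟩ := hv
  obtain ⟨u, hu⟩ := exists_U P.hσ hb
  obtain ⟨h, hh⟩ := exists_H P.hσ P.g_ne
  obtain ⟨t, ht⟩ := exists_T (σ := σ)
  exact ⟨⟨u, h, t, b, hu, hh, ht⟩⟩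

variable {P : Par σ} (gs : Gens P)

/-- The tuple of generators. -/
def Gens.v : Fin 3 → J3 σ := ![gs.u, gs.h, gs.t]

/-- The conjugate of the first generator. -/
def wv : FreeGroup (Fin 3) := fH * fU * fH⁻¹

/-- The central word. -/
def wc : FreeGroup (Fin 3) := fU * wv * fU⁻¹ * wv⁻¹

@[simp] theorem Gens.lift_fU : FreeGroup.lift gs.v fU = gs.u := (lift_gens _ _ _).1

@[simp] theorem Gens.lift_fH : FreeGroup.lift gs.v fH = gs.h := (lift_gens _ _ _).2.1

@[simp] theorem Gens.lift_fT : FreeGroup.lift gs.v fT = gs.t := (lift_gens _ _ _).2.2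

theorem Gens.cj_u (i l : ℕ) :
    ∃ b, IsU (cj (gs.h ^ i) gs.u l) ((lam σ P.g ^ i) ^ l) b := by
  have h := (gs.hh.pow (i * l)).conj_U P.hσ gs.hu
  rw [lam_pow, mul_one] at h
  rw [cj, ← pow_mul, ← pow_mul]
  exact ⟨_, h⟩

theorem Gens.hasA_ev (i : ℕ) (Q : ℤ[X]) :
    HasA (ev (gs.h ^ i) gs.u Q) (aeval (lam σ P.g ^ i) Q) :=
  HasA.ev P.hσ (fun l => gs.cj_u i l) Q

theorem Gens.wc_val : IsU (FreeGroup.lift gs.v wc) 0 P.delta := by
  have hv := gs.hh.conj_U P.hσ gs.hu
  have hw : FreeGroup.lift gs.v wv = gs.h * gs.u * gs.h⁻¹ := by simp [wv]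
  have h1 := gs.hu.mul hv
  have h2 := hv.mul gs.hu
  have hval : Valid σ 0 P.delta := by
    unfold Valid; rw [P.delta_skew, map_zero, mul_zero, add_neg_cancel, add_zero]
  obtain ⟨c, hc⟩ := exists_U P.hσ hval
  have key : gs.u * (gs.h * gs.u * gs.h⁻¹) = c * ((gs.h * gs.u * gs.h⁻¹) * gs.u) := by
    refine IsU.ext h1 (hc.mul h2) (by ring) ?_
    rw [Par.delta, mul_one, map_one]; ring
  have : FreeGroup.lift gs.v wc = c := by
    simp only [wc, map_mul, map_inv, hw, Gens.lift_fU]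
    rw [key]; group
  rw [this]; exact hc

/-- The norm of the generator in the fixed field. -/
def Par.x0K (P : Par σ) : Par.K0 (σ := σ) := ⟨P.x0, Par.mem_K0.2 P.x0_fixed⟩

theorem valid_zero (P : Par σ) (y : Par.K0 (σ := σ)) : Valid σ 0 ((y : F) * P.delta) := by
  unfold Valid
  rw [map_mul, Par.mem_K0.1 y.2, P.delta_skew]; simp

/-- The central element with a given parameter. -/
noncomputable def zEl (P : Par σ) (y : Par.K0 (σ := σ)) : J3 σ :=
  (exists_U P.hσ (valid_zero P y)).choose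

theorem zEl_spec (P : Par σ) (y : Par.K0 (σ := σ)) : IsU (zEl P y) 0 ((y : F) * P.delta) :=
  (exists_U P.hσ (valid_zero P y)).choose_spec

/-- The central homomorphism. -/
noncomputable def zT (P : Par σ) : Multiplicative (Par.K0 (σ := σ)) →* J3 σ :=
  MonoidHom.mk' (fun y => zEl P (Multiplicative.toAdd y)) fun y z => by
    refine IsU.ext (zEl_spec P _) ((zEl_spec P _).mul (zEl_spec P _)) (by simp) ?_
    simp [add_mul]

theorem zT_spec (P : Par σ) (y : Par.K0 (σ := σ)) :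
    IsU (zT P (Multiplicative.ofAdd y)) 0 ((y : F) * P.delta) := zEl_spec P y

theorem zT_inj (P : Par σ) {y : Par.K0 (σ := σ)} (h : zT P (Multiplicative.ofAdd y) = 1) : y = 0 := by
  have := ((zT_spec P y).unique (h ▸ IsU.one)).2
  exact Subtype.ext ((mul_eq_zero.1 this).resolve_right P.delta_ne)

theorem IsU.commute_central {m z : J3 σ} {a b s : F} (hm : IsU m a b) (hz : IsU z 0 s) : Commute m z :=
  IsU.ext (hm.mul hz) (hz.mul hm) (add_comm _ _) (by simp [add_comm])

theorem Gens.zT_one : zT P (Multiplicative.ofAdd 1) = FreeGroup.lift gs.v wc :=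
  IsU.ext (zT_spec P 1) gs.wc_val rfl (by simp)

theorem Gens.zT_shift (y : Par.K0 (σ := σ)) :
    gs.h * zT P (Multiplicative.ofAdd y) * gs.h⁻¹ = zT P (Multiplicative.ofAdd (P.x0K * y)) := by
  refine IsU.ext (gs.hh.conj_U P.hσ (zT_spec P y)) (zT_spec P _) (mul_zero _) ?_
  rw [Subfield.coe_mul]
  show P.g * σ P.g * ((y : F) * P.delta) = P.g * σ P.g * (y : F) * P.delta
  ring

theorem Gens.ev_wc (Q : ℤ[X]) :
    FreeGroup.lift gs.v (ev fH wc Q) = zT P (Multiplicative.ofAdd (aeval P.x0K Q)) := by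
  rw [map_ev, Gens.lift_fH]
  exact ev_of_field_hom (zT P) gs.zT_one gs.zT_shift Q

/-- Equal first parameters differ by a central word. -/
theorem Gens.exists_zword {D : PolyData P.p P.x0K} {A B : FreeGroup (Fin 3)} {a c : F}
    (hA : HasA (FreeGroup.lift gs.v A) a) (hB : HasA (FreeGroup.lift gs.v B) c) (hac : a = c) :
    ∃ Q : ℤ[X], FreeGroup.lift gs.v A = FreeGroup.lift gs.v (ev fH wc Q * B) := by
  obtain ⟨s, hs⟩ := hA.mul (hB.inv P.hσ)
  rw [hac, add_neg_cancel] at hs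
  have hv := hs.valid P.hσ
  unfold Valid at hv
  rw [map_zero, mul_zero, add_zero] at hv
  have hfix : σ (s / P.delta) = s / P.delta := by
    rw [map_div₀, P.delta_skew, show σ s = -s by linear_combination hv, neg_div_neg_eq]
  obtain ⟨Q, hQ⟩ := D.surj ⟨s / P.delta, Par.mem_K0.2 hfix⟩
  simp only at hQ
  refine ⟨Q, ?_⟩
  rw [map_mul, gs.ev_wc, hQ, ← mul_inv_eq_iff_eq_mul]
  refine IsU.ext hs (zT_spec P _) rfl ?_
  show s = s / P.delta * P.delta
  rw [div_mul_cancel₀ _ P.delta_ne]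

end CfsgLib.SU3Pres
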