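import Cfsg.Agent.Lib.SU3Pres.Words

/-!
A group satisfying seven further relations maps injectively to the model.
-/

set_option autoImplicit false
set_option linter.unusedSectionVars false

namespace CfsgLib.SU3Pres

open CfsgLib.PresentSL2 CfsgLib.BoundedPres

variable {F : Type*} [Field F] [Fintype F] {σ : F →+* F} {P : Par σ} (gs : Gens P)

/-- The second parameter determined by the first and a norm-one element. -/
def bOf (σ : F →+* F) (a ρ : F) : F := -(a * σ a) / (1 - ρ)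

theorem bOf_spec {a ρ : F} (hσ : ∀ a, σ (σ a) = a) (h1 : σ ρ * ρ = 1) (hne : ρ ≠ 1) :
    Valid σ a (bOf σ a ρ) ∧ σ (bOf σ a ρ) = -(ρ * bOf σ a ρ) := by
  have h0 : (1 : F) - ρ ≠ 0 := sub_ne_zero.2 (Ne.symm hne)
  have hρ : ρ ≠ 0 := right_ne_zero_of_mul_eq_one h1
  have hσρ : σ ρ = ρ⁻¹ := eq_inv_of_mul_eq_one_left h1
  have e : σ (bOf σ a ρ) = -(ρ * bOf σ a ρ) := by
    rw [bOf, map_div₀, map_neg, map_mul, hσ, map_sub, map_one, hσρ]
    have h0' : (1 : F) - ρ⁻¹ ≠ 0 := by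
      rw [sub_ne_zero]; intro h; exact hne (by rw [← inv_inv ρ, ← h, inv_one])
    field_simp
    ring
  refine ⟨?_, e⟩
  unfold Valid
  rw [e, bOf]
  field_simp
  ring

theorem eq_bOf {a b ρ : F} (hv : Valid σ a b) (hne : ρ ≠ 1) (e : σ b = -(ρ * b)) : b = bOf σ a ρ := by
  unfold Valid at hv
  rw [bOf, eq_div_iff (sub_ne_zero.2 (Ne.symm hne))]
  linear_combination hv - e

namespace Par

variable (P)

theorem om_pow_ne_one {j : ℕ} (h1 : 1 ≤ j) (h2 : j ≤ P.q) : P.om ^ j ≠ 1 := by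
  rw [om, ← pow_mul, ne_eq, P.g_iff, Nat.mul_dvd_mul_iff_left (by have := P.four_le; omega)]
  intro h
  have := Nat.le_of_dvd h1 h
  omega

theorem om_pow_unit (j : ℕ) : σ (P.om ^ j) * P.om ^ j = 1 := by
  rw [map_pow, P.sigma_om, ← mul_pow, inv_mul_cancel₀ P.om_ne, one_pow]

theorem exists_om_pow {ρ : F} (h : σ ρ * ρ = 1) (hne : ρ ≠ 1) :
    ∃ j, 1 ≤ j ∧ j ≤ P.q ∧ ρ = P.om ^ j := by
  obtain ⟨n, rfl⟩ := P.g_surj ρ (right_ne_zero_of_mul_eq_one h)
  rw [P.conj, ← pow_succ, ← pow_mul, P.g_iff, Nat.mul_dvd_mul_iff_right (Nat.succ_pos _)] at h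
  obtain ⟨j, rfl⟩ := h
  have hρ : P.g ^ ((P.q - 1) * j) = P.om ^ (j % (P.q + 1)) := by
    rw [pow_mul, ← om]
    refine pow_eq_pow_mod j ?_
    rw [om, ← pow_mul, P.g_iff]
  refine ⟨j % (P.q + 1), Nat.one_le_iff_ne_zero.2 fun h0 => hne ?_,
    Nat.le_of_lt_succ (Nat.mod_lt _ (Nat.succ_pos _)), hρ⟩
  rw [hρ, h0, pow_zero]

end Par

section

variable {G : Type*} [Group G] (f : Fin 3 → G)

/-- The big cell. -/
def BigCell : Set G := {z | ∃ k₁ ∈ Kg f, ∃ n : ℕ, ∃ k₂ ∈ Kg f, z = k₁ * f 1 ^ n * f 2 * k₂}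

theorem bigCell_left {k z : G} (hk : k ∈ Kg f) (hz : z ∈ BigCell f) : k * z ∈ BigCell f := by
  obtain ⟨k₁, h1, n, k₂, h2, rfl⟩ := hz
  exact ⟨k * k₁, mul_mem hk h1, n, k₂, h2, by simp only [mul_assoc]⟩

theorem bigCell_pow {z : G} (i : ℕ) (hz : z ∈ BigCell f) : f 1 ^ i * z ∈ BigCell f := by
  obtain ⟨k₁, h1, n, k₂, h2, rfl⟩ := hz
  exact ⟨_, conj_pow_mem_Kg f i h1, i + n, k₂, h2, by rw [pow_add]; group⟩

theorem bigCell_right {k z : G} (hk : k ∈ Kg f) (hz : z ∈ BigCell f) : z * k ∈ BigCell f := by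
  obtain ⟨k₁, h1, n, k₂, h2, rfl⟩ := hz
  exact ⟨k₁, h1, n, k₂ * k, mul_mem h2 hk, by simp only [mul_assoc]⟩

variable {N n₀ : ℕ}

theorem exists_inv_pow (hN : 0 < N) (hh : f 1 ^ N = 1) (i : ℕ) : ∃ m, (f 1 ^ i)⁻¹ = f 1 ^ m := by
  refine ⟨i * (N - 1), inv_eq_of_mul_eq_one_right ?_⟩
  obtain ⟨c, rfl⟩ : ∃ c, N = c + 1 := ⟨N - 1, by omega⟩
  rw [← pow_add, Nat.add_sub_cancel, show i + i * c = (c + 1) * i by ring, pow_mul, hh, one_pow]

theorem swap_pow (ht : f 2 * f 2 = 1) (htht : f 2 * f 1 * f 2 = f 1 ^ n₀) (i : ℕ) :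
    f 2 * f 1 ^ i = f 1 ^ (n₀ * i) * f 2 := by
  have e : (f 2)⁻¹ = f 2 := inv_eq_of_mul_eq_one_right ht
  have : f 2 * f 1 ^ i * (f 2)⁻¹ = f 1 ^ (n₀ * i) := by
    rw [← conj_pow, e, htht, ← pow_mul]
  rw [← this, inv_mul_cancel_right]

theorem bigCell_right_pow (hN : 0 < N) (hh : f 1 ^ N = 1) (ht : f 2 * f 2 = 1)
    (htht : f 2 * f 1 * f 2 = f 1 ^ n₀) {z : G} (i : ℕ) (hz : z ∈ BigCell f) :
    z * f 1 ^ i ∈ BigCell f := by
  obtain ⟨k₁, h1, n, k₂, h2, rfl⟩ := hz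
  obtain ⟨m, hm⟩ := exists_inv_pow f hN hh i
  have hk : (f 1 ^ i)⁻¹ * k₂ * f 1 ^ i ∈ Kg f := by
    have := conj_pow_mem_Kg f m h2
    rwa [← hm, inv_inv] at this
  refine ⟨k₁, h1, n + n₀ * i, _, hk, ?_⟩
  calc k₁ * f 1 ^ n * f 2 * k₂ * f 1 ^ i
      = k₁ * f 1 ^ n * (f 2 * f 1 ^ i) * ((f 1 ^ i)⁻¹ * k₂ * f 1 ^ i) := by group
    _ = k₁ * f 1 ^ (n + n₀ * i) * f 2 * ((f 1 ^ i)⁻¹ * k₂ * f 1 ^ i) := by
      rw [swap_pow f ht htht, pow_add]; simp only [mul_assoc]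

end

/-- The parameters of the seeds. -/
def Gens.seed (i : Fin 4) : F × F :=
  if i = 0 then (0, P.delta) else (P.g ^ ((i : ℕ) - 1), bOf σ (P.g ^ ((i : ℕ) - 1)) P.om)

variable {G : Type} [Group G] (φ : G →* J3 σ) (f : Fin 3 → G)

/-- The conjugate by the exchanging element lies in the big cell. -/
def InS (a b : F) : Prop := ∃ k ∈ Kg f, IsU (φ k) a b ∧ f 2 * k * f 2 ∈ BigCell f

/-- Injectivity from the relations for the exchanging element. -/
theorem Gens.injective_of_relations (hf : ∀ x, φ (f x) = gs.v x)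
    (hgen : Subgroup.closure (Set.range f) = ⊤) (hinj : ∀ k ∈ Kg f, φ k = 1 → k = 1)
    (hh : f 1 ^ P.N = 1) (ht : f 2 * f 2 = 1) {n₀ : ℕ} (htht : f 2 * f 1 * f 2 = f 1 ^ n₀)
    (hseed : ∀ i, InS φ f (Gens.seed (P := P) i).1 (Gens.seed (P := P) i).2) :
    Function.Injective φ := by
  have hσ := P.hσ
  have hN := P.N_pos
  have heq : ∀ {k l : G}, k ∈ Kg f → l ∈ Kg f → φ k = φ l → k = l := fun {k l} hk hl h => by
    rw [← mul_inv_eq_one]
    exact hinj _ (mul_mem hk (inv_mem hl)) (by rw [map_mul, map_inv, h, mul_inv_cancel])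
  have hK : ∀ k ∈ Kg f, ∃ a b, IsU (φ k) a b := by
    intro k hk
    refine gs.Kg_isU ?_
    rw [show gs.v = fun x => φ (f x) from funext fun x => (hf x).symm, ← map_Kg]
    exact ⟨k, hk, rfl⟩
  have hH : ∀ n : ℕ, IsH (φ (f 1 ^ n)) (P.g ^ n) := fun n => by
    rw [map_pow, hf]; exact gs.hh.pow n
  have hT : IsT (φ (f 2)) := by rw [hf]; exact gs.ht
  have hconj : ∀ {a b : F} (m : ℕ), InS φ f a b →
      InS φ f (lam σ (P.g ^ m) * a) (P.g ^ m * σ (P.g ^ m) * b) := by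
    rintro a b m ⟨k, hk, hku, hD⟩
    refine ⟨_, conj_pow_mem_Kg f m hk, ?_, ?_⟩
    · rw [map_mul, map_mul, map_inv]
      exact (hH m).conj_U hσ hku
    · obtain ⟨m', hm'⟩ := exists_inv_pow f hN hh m
      have : f 2 * (f 1 ^ m * k * (f 1 ^ m)⁻¹) * f 2 =
          f 1 ^ (n₀ * m) * (f 2 * k * f 2) * f 1 ^ (n₀ * m') := by
        rw [hm']
        calc f 2 * (f 1 ^ m * k * f 1 ^ m') * f 2
            = (f 2 * f 1 ^ m) * k * (f 2 * f 2) * f 1 ^ m' * f 2 := by rw [ht]; group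
          _ = f 1 ^ (n₀ * m) * f 2 * k * f 2 * (f 2 * f 1 ^ m') * f 2 := by
              rw [swap_pow f ht htht m]; group
          _ = f 1 ^ (n₀ * m) * (f 2 * k * f 2) * f 1 ^ (n₀ * m') * (f 2 * f 2) := by
              rw [swap_pow f ht htht m']; group
          _ = _ := by rw [ht, mul_one]
      rw [this]
      exact bigCell_right_pow f hN hh ht htht _ (bigCell_pow f _ hD)
  have hprod : ∀ {s a b : F}, InS φ f 0 s → InS φ f a b → InS φ f (-a / σ b) (s⁻¹ + b⁻¹) →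
      InS φ f a (s + b) := by
    rintro s a b ⟨x, hx, hxu, hxD⟩ ⟨y, hy, hyu, hyD⟩ ⟨m, hm, hmu, hmD⟩
    refine ⟨x * y, mul_mem hx hy, ?_, ?_⟩
    · have := hxu.mul hyu
      rw [zero_add, zero_mul, sub_zero] at this
      rw [map_mul]; exact this
    · obtain ⟨x₁, hx1, i, x₂, hx2, ex⟩ := hxD
      obtain ⟨y₁, hy1, l, y₂, hy2, ey⟩ := hyD
      obtain ⟨a₁, b₁, u1⟩ := hK x₁ hx1
      obtain ⟨a₂, b₂, u2⟩ := hK x₂ hx2
      obtain ⟨c₁, d₁, w1⟩ := hK y₁ hy1
      obtain ⟨c₂, d₂, w2⟩ := hK y₂ hy2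
      have ex' := congrArg φ ex
      have ey' := congrArg φ ey
      simp only [map_mul] at ex' ey'
      obtain ⟨-, -, -, ha2, hb2⟩ := hT.conj_U_unique hσ hxu u1 (hH i) u2 ex'
      obtain ⟨-, hc1, hd1, -, -⟩ := hT.conj_U_unique hσ hyu w1 (hH l) w2 ey'
      have hxy : x₂ * y₁ = m := by
        refine heq (mul_mem hx2 hy1) hm ?_
        rw [map_mul]
        refine IsU.ext (u2.mul w1) hmu ?_ ?_
        · rw [ha2, hc1, neg_zero, zero_div, zero_add]
        · rw [ha2, hb2, hd1, neg_zero, zero_div, zero_mul, sub_zero]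
      have : f 2 * (x * y) * f 2 = x₁ * f 1 ^ i * (f 2 * m * f 2) * f 1 ^ (n₀ * l) * y₂ := by
        rw [← hxy]
        calc f 2 * (x * y) * f 2 = (f 2 * x * f 2) * (f 2 * y * f 2) := by
              rw [show (f 2 * x * f 2) * (f 2 * y * f 2) = f 2 * x * (f 2 * f 2) * y * f 2 by group, ht]
              group
          _ = x₁ * f 1 ^ i * f 2 * (x₂ * y₁) * f 1 ^ l * f 2 * y₂ := by rw [ex, ey]; group
          _ = x₁ * f 1 ^ i * f 2 * (x₂ * y₁) * ((f 2 * f 2) * f 1 ^ l) * f 2 * y₂ := by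
              rw [ht, one_mul]
          _ = x₁ * f 1 ^ i * f 2 * (x₂ * y₁) * (f 2 * (f 2 * f 1 ^ l)) * f 2 * y₂ := by group
          _ = x₁ * f 1 ^ i * (f 2 * (x₂ * y₁) * f 2) * f 1 ^ (n₀ * l) * (f 2 * f 2) * y₂ := by
              rw [swap_pow f ht htht]; group
          _ = _ := by rw [ht, mul_one]
      rw [this]
      refine bigCell_right f hy2 (bigCell_right_pow f hN hh ht htht _ ?_)
      rw [mul_assoc]
      exact bigCell_left f hx1 (bigCell_pow f _ hmD)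
  have hcentral : ∀ s : F, σ s = -s → s ≠ 0 → InS φ f 0 s := by
    intro s hs h0
    obtain ⟨m, hm⟩ := P.fixed_eq_pow (y := s / P.delta)
      (by rw [map_div₀, hs, P.delta_skew, neg_div_neg_eq]) (div_ne_zero h0 P.delta_ne)
    have := hconj m (hseed 0)
    simp only [Gens.seed, if_true, mul_zero] at this
    rwa [map_pow, ← mul_pow, ← Par.x0, ← hm, div_mul_cancel₀ _ P.delta_ne] at this
  have hbase : ∀ a : F, a ≠ 0 → InS φ f a (bOf σ a P.om) := by
    intro a ha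
    obtain ⟨n, rfl⟩ := P.g_surj a ha
    set r := n % 3 with hr
    set l := n / 3
    have hn : P.g ^ n = (P.g ^ l) ^ 3 * P.g ^ r := by
      rw [← pow_mul, ← pow_add]; congr 1; omega
    have h3 : r < 3 := Nat.mod_lt _ (by norm_num)
    have hm : P.g ^ (l * (2 + P.q)) = P.g ^ l * P.g ^ l * σ (P.g ^ l) := by
      rw [P.conj, ← pow_mul, ← pow_add, ← pow_add]; congr 1; ring
    have hs := hseed ⟨r + 1, by omega⟩
    simp only [Gens.seed, Fin.ext_iff, Fin.val_zero, Nat.succ_ne_zero, if_false,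
      Nat.add_sub_cancel] at hs
    have := hconj (l * (2 + P.q)) hs
    have hl0 : P.g ^ l ≠ 0 := pow_ne_zero _ P.g_ne
    have hl0' : σ (P.g ^ l) ≠ 0 := (map_ne_zero σ).2 hl0
    rw [hm] at this
    convert this using 1
    · rw [hn, lam, map_mul, map_mul, hσ]; field_simp
    · simp only [bOf, hn, map_mul, map_pow, hσ]; ring
  have hlev : ∀ k, 1 ≤ k → k ≤ P.q → ∀ a : F, a ≠ 0 → InS φ f a (bOf σ a (P.om ^ k)) := by
    intro k h1
    induction k, h1 using Nat.le_induction with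
    | base =>
      intro _ a ha
      rw [pow_one]; exact hbase a ha
    | succ k hk ih =>
      intro hkq a ha
      have hω : ∀ j, 1 ≤ j → j ≤ P.q → P.om ^ j ≠ 1 := fun j => P.om_pow_ne_one
      have hω1 : P.om ≠ 1 := by simpa using hω 1 le_rfl (by omega)
      have hom1 : σ P.om * P.om = 1 := by simpa using P.om_pow_unit 1
      obtain ⟨vb, eb⟩ := bOf_spec (a := a) hσ hom1 hω1
      obtain ⟨vB, eB⟩ := bOf_spec (a := a) hσ (P.om_pow_unit (k + 1)) (hω _ (by omega) hkq)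
      have hy := hbase a ha
      generalize hbdef : bOf σ a P.om = b at vb eb hy
      generalize hBdef : bOf σ a (P.om ^ (k + 1)) = B at vB eB
      have hb0 : b ≠ 0 := by
        rintro rfl
        rw [Valid, map_zero, zero_add, zero_add] at vb
        exact mul_ne_zero ha ((map_ne_zero σ).2 ha) vb
      have hs : σ (B - b) = -(B - b) := by
        unfold Valid at vb vB
        rw [map_sub]; linear_combination vB - vb
      have hs0 : B - b ≠ 0 := by
        intro h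
        rw [sub_eq_zero] at h
        subst h
        have h2 : P.om ^ k * (P.om * B) = 1 * (P.om * B) := by
          rw [one_mul, ← mul_assoc, ← pow_succ]
          exact neg_injective (eB.symm.trans eb)
        exact hω k hk (by omega) (mul_right_cancel₀ (mul_ne_zero P.om_ne hb0) h2)
      have hb0' : σ b ≠ 0 := (map_ne_zero σ).2 hb0
      have hsum : (B - b)⁻¹ + b⁻¹ = B / ((B - b) * b) := by
        field_simp; ring
      have hv' : Valid σ (-a / σ b) ((B - b)⁻¹ + b⁻¹) := by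
        have hd := (valid_neg_div hσ vb hb0).1
        unfold Valid at hd ⊢
        rw [map_add, map_inv₀, hs, inv_neg]
        linear_combination hd
      have he' : σ ((B - b)⁻¹ + b⁻¹) = -(P.om ^ k * ((B - b)⁻¹ + b⁻¹)) := by
        rw [hsum, map_div₀, map_mul, hs, eB, eb, pow_succ]
        have := P.om_ne
        field_simp
      have hm : InS φ f (-a / σ b) ((B - b)⁻¹ + b⁻¹) := by
        rw [eq_bOf hv' (hω k hk (by omega)) he']
        exact ih (by omega) _ (div_ne_zero (neg_ne_zero.2 ha) hb0')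
      have := hprod (hcentral _ hs hs0) hy hm
      rwa [sub_add_cancel] at this
  have hall : ∀ a b : F, Valid σ a b → ¬ (a = 0 ∧ b = 0) → InS φ f a b := by
    intro a b hv h0
    by_cases ha : a = 0
    · subst ha
      refine hcentral b ?_ fun h => h0 ⟨rfl, h⟩
      unfold Valid at hv
      rw [zero_mul, add_zero] at hv
      linear_combination hv
    · have hN0 : a * σ a ≠ 0 := mul_ne_zero ha ((map_ne_zero σ).2 ha)
      unfold Valid at hv
      have hb : b ≠ 0 := by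
        rintro rfl
        rw [map_zero, zero_add, zero_add] at hv
        exact hN0 hv
      have hb' : σ b ≠ 0 := (map_ne_zero σ).2 hb
      have h1 : σ (-σ b / b) * (-σ b / b) = 1 := by
        rw [map_div₀, map_neg, hσ]; field_simp
      have h2 : -σ b / b ≠ 1 := by
        intro h
        rw [div_eq_one_iff_eq hb] at h
        refine hN0 ?_
        linear_combination hv + h
      have he : σ b = -(-σ b / b * b) := by rw [div_mul_cancel₀ _ hb, neg_neg]
      obtain ⟨j, hj1, hjq, hj⟩ := P.exists_om_pow h1 h2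
      rw [eq_bOf (σ := σ) (by unfold Valid; exact hv) h2 he, hj]
      exact hlev j hj1 hjq a ha
  have hbig : ∀ k ∈ Kg f, k ≠ 1 → f 2 * k * f 2 ∈ BigCell f := by
    intro k hk hk1
    obtain ⟨a, b, hku⟩ := hK k hk
    obtain ⟨l, hl, hlu, hD⟩ := hall a b (hku.valid hσ) (by
      rintro ⟨rfl, rfl⟩
      exact hk1 (hinj k hk (hku.ext IsU.one rfl rfl)))
    rwa [heq hk hl (hku.ext hlu rfl rfl)]
  have hmem : ∀ z : G, (∃ k ∈ Kg f, ∃ n : ℕ, z = k * f 1 ^ n) ∨ z ∈ BigCell f := by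
    set X : Set G := {z | (∃ k ∈ Kg f, ∃ n : ℕ, z = k * f 1 ^ n) ∨ z ∈ BigCell f} with hX
    have sK : ∀ z ∈ X, ∀ k ∈ Kg f, z * k ∈ X := by
      rintro z (⟨l, hl, n, rfl⟩ | hz) k hk
      · refine Or.inl ⟨l * (f 1 ^ n * k * (f 1 ^ n)⁻¹), mul_mem hl (conj_pow_mem_Kg f n hk), n, ?_⟩
        group
      · exact Or.inr (bigCell_right f hk hz)
    have sH : ∀ z ∈ X, ∀ i : ℕ, z * f 1 ^ i ∈ X := by
      rintro z (⟨l, hl, n, rfl⟩ | hz) i
      · exact Or.inl ⟨l, hl, n + i, by rw [pow_add, mul_assoc]⟩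
      · exact Or.inr (bigCell_right_pow f hN hh ht htht i hz)
    have sT : ∀ z ∈ X, z * f 2 ∈ X := by
      rintro z (⟨l, hl, n, rfl⟩ | ⟨k₁, h1, n, k₂, h2, rfl⟩)
      · exact Or.inr ⟨l, hl, n, 1, one_mem _, by rw [mul_one]⟩
      · by_cases hk : k₂ = 1
        · refine Or.inl ⟨k₁, h1, n, ?_⟩
          rw [hk, mul_one, mul_assoc, ht, mul_one]
        · refine Or.inr ?_
          rw [show k₁ * f 1 ^ n * f 2 * k₂ * f 2 = k₁ * (f 1 ^ n * (f 2 * k₂ * f 2)) by group]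
          exact bigCell_left f h1 (bigCell_pow f n (hbig k₂ h2 hk))
    intro z
    have hz : z ∈ Subgroup.closure (Set.range f) := hgen ▸ Subgroup.mem_top z
    show z ∈ X
    induction hz using Subgroup.closure_induction_right with
    | one => exact Or.inl ⟨1, one_mem _, 0, by simp⟩
    | mul_right x _ y hy hx =>
      obtain ⟨i, rfl⟩ := hy
      match i with
      | 0 => exact sK x hx _ (f0_mem_Kg f)
      | 1 => simpa using sH x hx 1
      | 2 => exact sT x hx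
    | mul_inv_cancel x _ y hy hx =>
      obtain ⟨i, rfl⟩ := hy
      match i with
      | 0 => exact sK x hx _ (inv_mem (f0_mem_Kg f))
      | 1 =>
        obtain ⟨m, hm⟩ := exists_inv_pow f hN hh 1
        rw [pow_one] at hm
        rw [hm]; exact sH x hx m
      | 2 => rw [inv_eq_of_mul_eq_one_right ht]; exact sT x hx
  intro z w hzw
  rw [← mul_inv_eq_one]
  have h1 : φ (z * w⁻¹) = 1 := by rw [map_mul, map_inv, hzw, mul_inv_cancel]
  rcases hmem (z * w⁻¹) with ⟨k, hk, n, hn⟩ | ⟨k₁, hk1, n, k₂, hk2, hn⟩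
  · rw [hn] at h1 ⊢
    obtain ⟨a, b, hku⟩ := hK k hk
    rw [map_mul] at h1
    obtain ⟨hgn, hk'⟩ := mul_eq_one hku (hH n) h1
    obtain ⟨d, hd⟩ := (P.g_iff n).1 hgn
    rw [hinj k hk hk', one_mul, hd, pow_mul, show (P.q - 1) * (P.q + 1) = P.N from rfl, hh, one_pow]
  · rw [hn] at h1
    obtain ⟨a, b, u1⟩ := hK k₁ hk1
    obtain ⟨c, d, u2⟩ := hK k₂ hk2
    simp only [map_mul] at h1
    exact absurd h1 (mul_ne_one u1 (hH n) hT u2)

end CfsgLib.SU3Pres
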