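import Cfsg.Agent.Lib.SU3Pres.Model
import Cfsg.Agent.Lib.PresentSL2.Bound

/-!
The arithmetic of a field with `q ^ 2` elements used in the bounded presentation of `SU₃(q)`,
`q ∉ {2, 3, 5}`.
-/

set_option autoImplicit false
set_option linter.unusedSectionVars false

namespace CfsgLib.SU3Pres

open Polynomial
open CfsgLib.PresentSL2

variable {F : Type*} [Field F] [Fintype F]

/-- The parameters: a generator of the units and the size of the fixed field. -/
structure Par (σ : F →+* F) where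
  q : ℕ
  p : ℕ
  e : ℕ
  hp : p.Prime
  charP : CharP F p
  hqe : q = p ^ e
  he : 0 < e
  card : Fintype.card F = q ^ 2
  conj : ∀ x, σ x = x ^ q
  g : F
  g_iff : ∀ n : ℕ, g ^ n = 1 ↔ (q - 1) * (q + 1) ∣ n
  g_surj : ∀ y : F, y ≠ 0 → ∃ n : ℕ, y = g ^ n
  q2 : q ≠ 2
  q3 : q ≠ 3
  q5 : q ≠ 5

namespace Par

variable {σ : F →+* F} (P : Par σ)

/-- The order of the generator. -/
def N : ℕ := (P.q - 1) * (P.q + 1)

/-- An element of norm one. -/
def om : F := P.g ^ (P.q - 1)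

/-- The image of it under the scaling. -/
def eps : F := P.om ^ 3

/-- The norm of the generator. -/
def x0 : F := P.g * σ P.g

/-- The second coordinate of the commutator. -/
def delta : F := lam σ P.g - σ (lam σ P.g)

theorem four_le : 4 ≤ P.q := by
  have h2 := P.hp.two_le
  have : 2 ≤ P.q := by rw [P.hqe]; exact le_trans h2 (Nat.le_self_pow P.he.ne' _)
  have := P.q2; have := P.q3
  omega

theorem q_sq : P.q * P.q = P.N + 1 := by
  have := P.four_le
  unfold Par.N
  obtain ⟨k, hk⟩ : ∃ k, P.q = k + 1 := ⟨P.q - 1, by omega⟩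
  rw [hk, Nat.add_sub_cancel]; ring

theorem N_pos : 0 < P.N := Nat.mul_pos (by have := P.four_le; omega) (by omega)

include P in
theorem hσ (a : F) : σ (σ a) = a := by
  rw [P.conj, P.conj, ← pow_mul, ← pow_two, ← P.card, FiniteField.pow_card]

theorem g_pow_N : P.g ^ P.N = 1 := (P.g_iff _).2 dvd_rfl

theorem g_ne : P.g ≠ 0 := fun h => by
  have := P.g_pow_N
  rw [h, zero_pow P.N_pos.ne'] at this
  exact zero_ne_one this

theorem g_eq {a b : ℕ} (h : P.g ^ a = P.g ^ b) : a % P.N = b % P.N := by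
  wlog hab : a ≤ b generalizing a b
  · exact (this h.symm (by omega)).symm
  obtain ⟨c, rfl⟩ := Nat.exists_eq_add_of_le hab
  rw [pow_add] at h
  have h1 : P.g ^ c = 1 := (mul_eq_left₀ (pow_ne_zero _ P.g_ne)).1 h.symm
  obtain ⟨d, hd⟩ := (P.g_iff c).1 h1
  rw [hd]; exact (Nat.add_mul_mod_self_left a P.N d).symm

theorem om_ne : P.om ≠ 0 := pow_ne_zero _ P.g_ne

theorem sigma_om : σ P.om = P.om⁻¹ := by
  refine eq_inv_of_mul_eq_one_left ?_
  rw [P.conj, om, ← pow_mul, ← pow_add, P.g_iff]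
  refine ⟨1, ?_⟩
  have := P.four_le
  obtain ⟨k, hk⟩ : ∃ k, P.q = k + 1 := ⟨P.q - 1, by omega⟩
  rw [hk, Nat.add_sub_cancel]; ring

theorem lam_om : lam σ P.om = P.eps := by
  rw [lam, P.sigma_om, eps, div_inv_eq_mul]; ring

theorem lam_g_pow : lam σ P.g ^ (P.q - 1) = P.eps := by
  rw [← lam_pow, ← P.lam_om, om]

theorem eps_ne : P.eps ≠ 0 := pow_ne_zero _ P.om_ne

theorem eps_pow_eq_one (n : ℕ) : P.eps ^ n = 1 ↔ P.q + 1 ∣ 3 * n := by
  rw [eps, om, ← pow_mul, ← pow_mul, P.g_iff]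
  exact Nat.mul_dvd_mul_iff_left (by have := P.four_le; omega)

theorem not_dvd_six : ¬ P.q + 1 ∣ 6 := fun h => by
  have h1 := Nat.le_of_dvd (by omega) h
  have := P.four_le; have := P.q5
  have h4 : P.q = 4 := by omega
  rw [h4] at h
  norm_num at h

theorem not_dvd (h8 : P.q ≠ 8) {m n : ℕ} (hm : 2 * m ≤ P.e) (hn : 0 < n) (hle : n ≤ P.p ^ m + 1) :
    ¬ P.q + 1 ∣ 3 * n := by
  intro hd
  have h2 := P.hp.two_le
  have hme : P.p ^ m < P.q := by
    rw [P.hqe]; exact Nat.pow_lt_pow_right h2 (by have := P.he; omega)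
  by_cases h3 : 3 ∣ P.q + 1
  · have hbound : P.q + 1 ≤ 3 * (P.p ^ m + 1) :=
      (Nat.le_of_dvd (by omega) hd).trans (by omega)
    rcases Nat.even_or_odd P.e with ⟨k, hk⟩ | ⟨k, hk⟩
    · have hsq : P.q = P.p ^ k * P.p ^ k := by rw [← pow_add, ← hk, P.hqe]
      have h := Nat.mul_mod (P.p ^ k) (P.p ^ k) 3
      rw [← hsq] at h
      have : P.p ^ k % 3 < 3 := Nat.mod_lt _ (by norm_num)
      interval_cases hr : P.p ^ k % 3 <;> omega
    · have hq : P.q = P.p * (P.p ^ k * P.p ^ k) := by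
        rw [P.hqe, hk, ← pow_add, ← pow_succ']; congr 1; omega
      have hmk : P.p ^ m ≤ P.p ^ k := Nat.pow_le_pow_right (by omega) (by omega)
      have hX1 : 1 ≤ P.p ^ k := Nat.one_le_pow _ _ (by omega)
      have := P.q2; have := P.q3; have := P.q5
      generalize hX : P.p ^ k = X at *
      by_cases hX1' : X = 1
      · subst hX1'
        omega
      have hX2 : P.p ≤ X := by
        rcases Nat.eq_zero_or_pos k with rfl | hk0
        · simp at hX; omega
        · rw [← hX]; exact Nat.le_self_pow hk0.ne' _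
      by_cases hp2 : P.p = 2
      · rw [hp2] at hq
        have : X ≤ 2 := by nlinarith
        interval_cases X <;> omega
      · have : 3 * (X * X) ≤ P.q := by rw [hq]; exact Nat.mul_le_mul_right _ (by omega)
        nlinarith
  · have hcop : Nat.Coprime (P.q + 1) 3 :=
      ((Nat.prime_three.coprime_iff_not_dvd).2 h3).symm
    have := Nat.le_of_dvd hn (hcop.dvd_of_dvd_mul_left hd)
    omega

theorem eps_gen (h8 : P.q ≠ 8) {d : ℕ} (hd : 1 ≤ d) (hde : d ≤ P.e) : P.eps ^ P.p ^ d ≠ P.eps := by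
  intro h
  have h2 := P.hp.two_le
  have hpd : P.p ≤ P.p ^ d := Nat.le_self_pow (by omega) _
  have h1 : P.eps ^ (P.p ^ d - 1) = 1 := by
    refine mul_right_cancel₀ P.eps_ne ?_
    rw [one_mul, ← pow_succ, Nat.sub_add_cancel (by omega), h]
  rw [eps_pow_eq_one] at h1
  rcases le_or_gt (2 * d) P.e with hc | hc
  · exact P.not_dvd h8 hc (by omega) (by omega) h1
  rcases eq_or_lt_of_le hde with rfl | hlt
  · rw [← P.hqe] at h1
    have h3 : P.q + 1 ∣ 3 * (P.q + 1) := dvd_mul_left _ _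
    have := Nat.dvd_sub h3 h1
    rw [show 3 * (P.q + 1) - 3 * (P.q - 1) = 6 by have := P.four_le; omega] at this
    exact P.not_dvd_six this
  · refine P.not_dvd h8 (m := P.e - d) (n := P.p ^ (P.e - d) + 1) (by omega) (by omega) le_rfl ?_
    have key : P.p ^ (P.e - d) * (3 * (P.p ^ d - 1)) + 3 * (P.p ^ (P.e - d) + 1) = 3 * (P.q + 1) := by
      have : P.q = P.p ^ (P.e - d) * P.p ^ d := by
        rw [P.hqe, ← pow_add]; congr 1; omega
      rw [this]
      obtain ⟨r, hr⟩ : ∃ r, P.p ^ d = r + 1 := ⟨P.p ^ d - 1, by omega⟩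
      rw [hr, Nat.add_sub_cancel]; ring
    exact (Nat.dvd_add_right (h1.mul_left _)).1 (key ▸ dvd_mul_left _ _)

theorem lam_gen {d : ℕ} (hd : 1 ≤ d) (hde : 2 * d ≤ 2 * P.e) :
    lam σ P.g ^ P.p ^ d ≠ lam σ P.g := by
  intro h
  by_cases h8 : P.q = 8
  · have hp : P.p = 2 := by
      have : P.p ∣ 2 ^ 3 := by
        show P.p ∣ 8
        rw [← h8, P.hqe]; exact dvd_pow_self _ P.he.ne'
      exact (Nat.prime_dvd_prime_iff_eq P.hp Nat.prime_two).1 (P.hp.dvd_of_dvd_pow this)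
    have he : P.e = 3 := by
      have := P.hqe
      rw [hp, h8] at this
      exact (Nat.pow_right_injective le_rfl (show 2 ^ 3 = 2 ^ P.e from this)).symm
    have hN : P.N = 63 := by rw [Par.N, h8]
    rw [lam, P.conj, h8, hp, div_pow, div_eq_div_iff (pow_ne_zero _ (pow_ne_zero _ P.g_ne))
      (pow_ne_zero _ P.g_ne), ← pow_two, ← pow_mul, ← pow_mul, ← pow_add, ← pow_add] at h
    have h' := P.g_eq h
    rw [hN] at h'
    obtain ⟨hd1, hd3⟩ : 1 ≤ d ∧ d ≤ 3 := ⟨hd, by omega⟩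
    interval_cases d <;> norm_num at h'
  · refine P.eps_gen h8 hd (by omega) ?_
    rw [← P.lam_g_pow, ← pow_mul, mul_comm, pow_mul, h]

theorem lam_g_ne : lam σ P.g ≠ 0 := lam_ne_zero P.g_ne

theorem delta_ne : P.delta ≠ 0 := by
  rw [delta, sub_ne_zero, P.conj, P.hqe]
  exact (P.lam_gen P.he le_rfl).symm

theorem delta_skew : σ P.delta = -P.delta := by
  rw [delta, map_sub, P.hσ]; ring

/-- Polynomial data for the whole field. -/
theorem polyData_lam : Nonempty (PolyData P.p (lam σ P.g)) := by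
  haveI := Fact.mk P.hp
  haveI := P.charP
  exact exists_polyData (e := 2 * P.e) (by rw [P.card, P.hqe, ← pow_mul, mul_comm])
    fun d hd hde => P.lam_gen hd (by omega)

theorem polyData_eps (h8 : P.q ≠ 8) : Nonempty (PolyData P.p P.eps) := by
  haveI := Fact.mk P.hp
  haveI := P.charP
  exact exists_polyData (e := 2 * P.e) (by rw [P.card, P.hqe, ← pow_mul, mul_comm])
    fun d hd hde => P.eps_gen h8 hd (by omega)

theorem one_add_eps : (1 : F) + P.eps ≠ 0 := fun h => by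
  have : P.eps ^ 2 = 1 := by rw [eq_neg_of_add_eq_zero_right h, neg_one_sq]
  rw [eps_pow_eq_one] at this
  exact P.not_dvd_six this

/-- The element whose scaling is `1 + eps`. -/
theorem exists_j : ∃ j : ℕ, lam σ (P.g ^ j) = 1 + P.eps ∧
    P.x0 ^ j = P.eps + 2 + P.eps⁻¹ := by
  have hy := P.one_add_eps
  have ho := P.om_ne
  obtain ⟨j, hj⟩ := P.g_surj ((1 + P.eps) / P.om) (div_ne_zero hy ho)
  have hs : σ (P.g ^ j) = (1 + P.eps) / P.om ^ 2 := by
    rw [← hj, map_div₀, map_add, map_one, eps, map_pow, P.sigma_om]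
    field_simp
    ring
  refine ⟨j, ?_, ?_⟩
  · rw [lam, hs, ← hj]; field_simp
  · rw [x0, mul_pow, ← map_pow, hs, ← hj, eps]; field_simp; ring

/-- The fixed field. -/
def K0 : Subfield F := RingHom.eqLocusField σ (RingHom.id F)

theorem mem_K0 {x : F} : x ∈ K0 (σ := σ) ↔ σ x = x := Iff.rfl

theorem x0_fixed : σ P.x0 = P.x0 := by rw [x0, map_mul, P.hσ, mul_comm]

theorem x0_pow (n : ℕ) : P.x0 ^ n = P.g ^ ((P.q + 1) * n) := by
  rw [x0, P.conj, ← pow_succ', ← pow_mul]

theorem x0_pow_eq_one (n : ℕ) : P.x0 ^ n = 1 ↔ P.q - 1 ∣ n := by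
  rw [P.x0_pow, P.g_iff, mul_comm (P.q - 1), Nat.mul_dvd_mul_iff_left (Nat.succ_pos _)]

theorem x0_ne : P.x0 ≠ 0 := mul_ne_zero P.g_ne ((map_ne_zero σ).2 P.g_ne)

theorem fixed_eq_pow {y : F} (hy : σ y = y) (h0 : y ≠ 0) : ∃ n : ℕ, y = P.x0 ^ n := by
  obtain ⟨n, rfl⟩ := P.g_surj y h0
  rw [map_pow, P.conj, ← pow_mul] at hy
  have h1 : (P.g ^ n) ^ (P.q - 1) = 1 := by
    refine mul_right_cancel₀ h0 ?_
    rw [one_mul, ← pow_succ, Nat.sub_add_cancel (by have := P.four_le; omega), ← pow_mul, mul_comm n, hy]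
  rw [← pow_mul, P.g_iff, mul_comm n, Nat.mul_dvd_mul_iff_left (by have := P.four_le; omega)] at h1
  obtain ⟨r, hr⟩ := h1
  exact ⟨r, by rw [hr, P.x0_pow]⟩

theorem card_K0 : Nat.card (K0 (σ := σ)) = P.p ^ P.e := by
  classical
  have hN : Fintype.card (K0 (σ := σ)) = P.q - 1 + 1 := by
    have h1 : (K0 (σ := σ) : Set F) = insert (0 : F) ((fun n => P.x0 ^ n) '' (Set.Iio (P.q - 1))) := by
      ext y
      constructor
      · intro hy
        by_cases h0 : y = 0
        · exact Or.inl h0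
        obtain ⟨n, rfl⟩ := P.fixed_eq_pow (mem_K0.1 hy) h0
        refine Or.inr ⟨n % (P.q - 1), Nat.mod_lt _ (by have := P.four_le; omega), ?_⟩
        exact (pow_eq_pow_mod n ((P.x0_pow_eq_one _).2 dvd_rfl)).symm
      · rintro (rfl | ⟨n, -, rfl⟩)
        · exact zero_mem _
        · exact pow_mem (mem_K0.2 P.x0_fixed) n
    rw [← Nat.card_eq_fintype_card, ← SetLike.coe_sort_coe, Nat.card_coe_set_eq, h1,
      Set.ncard_insert_of_notMem (by rintro ⟨n, -, hn⟩; exact pow_ne_zero _ P.x0_ne hn),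
      Set.ncard_image_of_injOn, ← Finset.coe_Iio, Set.ncard_coe_finset, Nat.card_Iio]
    intro a ha b hb hab
    wlog hle : a ≤ b generalizing a b
    · exact (this hb ha hab.symm (by omega)).symm
    obtain ⟨c, rfl⟩ := Nat.exists_eq_add_of_le hle
    simp only [pow_add] at hab
    have hc : P.x0 ^ c = 1 := (mul_eq_left₀ (pow_ne_zero _ P.x0_ne)).1 hab.symm
    rw [P.x0_pow_eq_one] at hc
    rw [Set.mem_Iio] at hb
    have := Nat.eq_zero_of_dvd_of_lt hc (by omega)
    omega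
  rw [Nat.card_eq_fintype_card, hN, ← P.hqe]
  have := P.four_le
  omega

theorem exists_b : ∃ j : ℕ, P.x0 ^ j = 1 + P.x0 := by
  have h : (1 : F) + P.x0 ≠ 0 := fun h => by
    have : P.x0 ^ 2 = 1 := by rw [eq_neg_of_add_eq_zero_right h, neg_one_sq]
    rw [P.x0_pow_eq_one] at this
    have := Nat.le_of_dvd (by norm_num) this
    have := P.four_le
    omega
  obtain ⟨j, hj⟩ := P.fixed_eq_pow (by rw [map_add, map_one, P.x0_fixed]) h
  exact ⟨j, hj.symm⟩

theorem polyData_K0 (μ : K0 (σ := σ))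
    (hμ : ∀ d, 1 ≤ d → 2 * d ≤ P.e → (μ : F) ^ P.p ^ d ≠ μ) : Nonempty (PolyData P.p μ) := by
  classical
  haveI := Fact.mk P.hp
  haveI := P.charP
  haveI : CharP (K0 (σ := σ)) P.p := ((K0 (σ := σ)).subtype.charP_iff Subtype.val_injective P.p).2 P.charP
  refine exists_polyData (e := P.e) (by rw [← P.card_K0, Nat.card_eq_fintype_card]) fun d hd hde h => ?_
  exact hμ d hd hde (congrArg Subtype.val h)

theorem x0_gen {d : ℕ} (hd : 1 ≤ d) (hde : 2 * d ≤ P.e) : P.x0 ^ P.p ^ d ≠ P.x0 := by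
  intro h
  have h2 := P.hp.two_le
  have hpd : P.p ≤ P.p ^ d := Nat.le_self_pow (by omega) _
  have h1 : P.x0 ^ (P.p ^ d - 1) = 1 := by
    refine mul_right_cancel₀ P.x0_ne ?_
    rw [one_mul, ← pow_succ, Nat.sub_add_cancel (by omega), h]
  rw [P.x0_pow_eq_one] at h1
  have := Nat.le_of_dvd (by omega) h1
  have : P.p ^ d < P.q := by rw [P.hqe]; exact Nat.pow_lt_pow_right h2 (by omega)
  omega

theorem s0_gen (h8 : P.q ≠ 8) {d : ℕ} (hd : 1 ≤ d) (hde : 2 * d ≤ P.e) :
    ((P.eps + 2 + P.eps⁻¹)⁻¹) ^ P.p ^ d ≠ (P.eps + 2 + P.eps⁻¹)⁻¹ := by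
  haveI := Fact.mk P.hp
  haveI := P.charP
  intro h
  rw [inv_pow, inv_inj] at h
  have he := P.eps_ne
  have hF : (P.eps + 2 + P.eps⁻¹) ^ P.p ^ d = P.eps ^ P.p ^ d + 2 + (P.eps ^ P.p ^ d)⁻¹ := by
    rw [← iterateFrobenius_def, map_add, map_add, map_inv₀, map_ofNat, iterateFrobenius_def]
  rw [hF] at h
  have h2 := P.hp.two_le
  have hpd : P.p ≤ P.p ^ d := Nat.le_self_pow (by omega) _
  generalize hy : P.eps ^ P.p ^ d = y at h
  have hy0 : y ≠ 0 := hy ▸ pow_ne_zero _ he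
  have hz : (y - P.eps) * (y * P.eps - 1) = 0 := by
    field_simp at h
    linear_combination h
  rcases mul_eq_zero.1 hz with hz | hz
  · exact P.eps_gen h8 hd (by omega) (hy.trans (sub_eq_zero.1 hz))
  · have h1 : P.eps ^ (P.p ^ d + 1) = 1 := by rw [pow_succ, hy, sub_eq_zero.1 hz]
    rw [P.eps_pow_eq_one] at h1
    exact P.not_dvd h8 hde (by omega) le_rfl h1

theorem char_nsmul (y : F) : P.p • y = 0 := by
  haveI := P.charP
  rw [nsmul_eq_mul, CharP.cast_eq_zero, zero_mul]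

end Par

/-- An additive subgroup containing one and closed under a generating multiplication is everything. -/
theorem addSubgroup_eq_top {K : Type*} [Field K] {p : ℕ} {x : K} (D : PolyData p x) (S : AddSubgroup K)
    (h1 : (1 : K) ∈ S) (hx : ∀ y ∈ S, x * y ∈ S) : S = ⊤ := by
  rw [eq_top_iff]
  intro y _
  obtain ⟨P, rfl⟩ := D.surj y
  have hpow : ∀ n : ℕ, x ^ n ∈ S := by
    intro n
    induction n with
    | zero => rw [pow_zero]; exact h1
    | succ n ih => rw [pow_succ']; exact hx _ ih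
  simp only
  rw [aeval_eq_sum_range]
  exact sum_mem fun i _ => zsmul_mem (hpow i) _

/-- A power of an element is a combination of lower powers once the exponent reaches the degree. -/
theorem exists_comb {K : Type*} [Field K] [Fintype K] {p r : ℕ} [Fact p.Prime] [CharP K p]
    (hK : Fintype.card K = p ^ r) (x : K) :
    ∃ c : ℕ → ℤ, x ^ r = ∑ i ∈ Finset.range r, c i • x ^ i := by
  letI : Algebra (ZMod p) K := ZMod.algebra K p
  have hfin : Module.finrank (ZMod p) K = r := by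
    have h := Module.card_eq_pow_finrank (K := ZMod p) (V := K)
    rw [hK, ZMod.card] at h
    exact (Nat.pow_right_injective (Fact.out (p := p.Prime)).two_le h).symm
  have hint : IsIntegral (ZMod p) x := IsIntegral.of_finite _ x
  have hle : (minpoly (ZMod p) x).natDegree ≤ r := hfin ▸ minpoly.natDegree_le x
  set P := minpoly (ZMod p) x * X ^ (r - (minpoly (ZMod p) x).natDegree) with hP
  have hm : P.Monic := (minpoly.monic hint).mul (monic_X_pow _)
  have hd : P.natDegree = r := by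
    rw [hP, natDegree_mul_X_pow _ (minpoly.monic hint).ne_zero]; omega
  have h0 : aeval x P = 0 := by rw [hP, map_mul, minpoly.aeval, zero_mul]
  rw [hm.as_sum, hd, map_add, map_pow, aeval_X, map_sum, add_eq_zero_iff_eq_neg] at h0
  refine ⟨fun i => -((P.coeff i).val : ℤ), h0.trans ?_⟩
  rw [← Finset.sum_neg_distrib]
  refine Finset.sum_congr rfl fun i _ => ?_
  rw [map_mul, aeval_C, map_pow, aeval_X, neg_smul, zsmul_eq_mul]
  congr 2
  rw [Int.cast_natCast, ← map_natCast (algebraMap (ZMod p) K), ZMod.natCast_zmod_val]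

end CfsgLib.SU3Pres
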