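import Mathlib

/-!
The special unitary group of the antidiagonal Hermitian form in dimension three, its unipotent
upper triangular elements, diagonal elements and the involution exchanging the isotropic axes.
-/

set_option autoImplicit false
set_option linter.unusedSectionVars false

namespace CfsgLib.SU3Pres

open Matrix
open scoped MatrixGroups

variable {F : Type*} [Field F] (σ : F →+* F)

/-- The antidiagonal Hermitian form. -/
def jForm (x y : Fin 3 → F) : F := x 0 * σ (y 2) + x 1 * σ (y 1) + x 2 * σ (y 0)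

theorem jForm_ext {σ : F →+* F} {m : Matrix (Fin 3) (Fin 3) F}
    (h : ∀ i j : Fin 3, jForm σ (fun k => m k i) (fun k => m k j) =
      jForm σ (fun k => (1 : Matrix (Fin 3) (Fin 3) F) k i) (fun k => (1 : Matrix (Fin 3) (Fin 3) F) k j))
    (x y : Fin 3 → F) : jForm σ (m *ᵥ x) (m *ᵥ y) = jForm σ x y := by
  have h00 := h 0 0; have h01 := h 0 1; have h02 := h 0 2
  have h10 := h 1 0; have h11 := h 1 1; have h12 := h 1 2
  have h20 := h 2 0; have h21 := h 2 1; have h22 := h 2 2
  simp [jForm] at h00 h01 h02 h10 h11 h12 h20 h21 h22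
  simp only [jForm, mulVec, dotProduct, Fin.sum_univ_three, map_add, map_mul]
  linear_combination (x 0 * σ (y 0)) * h00 + (x 0 * σ (y 1)) * h01 + (x 0 * σ (y 2)) * h02 +
    (x 1 * σ (y 0)) * h10 + (x 1 * σ (y 1)) * h11 + (x 1 * σ (y 2)) * h12 +
    (x 2 * σ (y 0)) * h20 + (x 2 * σ (y 1)) * h21 + (x 2 * σ (y 2)) * h22

/-- The matrices of determinant one preserving the antidiagonal form. -/
def J3 : Subgroup SL(3, F) where
  carrier := {m | ∀ x y, jForm σ ((m : Matrix (Fin 3) (Fin 3) F) *ᵥ x) ((m : Matrix (Fin 3) (Fin 3) F) *ᵥ y) = jForm σ x y}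
  one_mem' := fun x y => by simp
  mul_mem' := fun {m n} hm hn x y => by
    rw [Matrix.SpecialLinearGroup.coe_mul, ← mulVec_mulVec, ← mulVec_mulVec, hm, hn]
  inv_mem' := fun {m} hm x y => by
    have h := hm ((m⁻¹ : SL(3, F)).1 *ᵥ x) ((m⁻¹ : SL(3, F)).1 *ᵥ y)
    rw [mulVec_mulVec, mulVec_mulVec, ← Matrix.SpecialLinearGroup.coe_mul, mul_inv_cancel,
      Matrix.SpecialLinearGroup.coe_one, one_mulVec, one_mulVec] at h
    exact h.symm

variable {σ}

/-- The matrix of an element. -/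
def mat (m : J3 σ) : Matrix (Fin 3) (Fin 3) F := ((m : SL(3, F)) : Matrix (Fin 3) (Fin 3) F)

@[simp] theorem mat_mul (m n : J3 σ) : mat (m * n) = mat m * mat n := rfl

@[simp] theorem mat_one : mat (1 : J3 σ) = 1 := rfl

theorem mat_injective : Function.Injective (mat (σ := σ)) := fun _ _ h => Subtype.ext (Subtype.ext h)

theorem mat_preserves (m : J3 σ) (x y : Fin 3 → F) : jForm σ (mat m *ᵥ x) (mat m *ᵥ y) = jForm σ x y :=
  m.2 x y

theorem exists_of_mat {M : Matrix (Fin 3) (Fin 3) F} (hd : M.det = 1)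
    (hM : ∀ x y, jForm σ (M *ᵥ x) (M *ᵥ y) = jForm σ x y) : ∃ m : J3 σ, mat m = M :=
  ⟨⟨⟨M, hd⟩, hM⟩, rfl⟩

variable (σ)

/-- The condition on the parameters of a unipotent element. -/
def Valid (a b : F) : Prop := b + σ b + a * σ a = 0

/-- The unipotent matrices. -/
def uMat (a b : F) : Matrix (Fin 3) (Fin 3) F := !![1, a, b; 0, 1, -σ a; 0, 0, 1]

/-- The diagonal matrices. -/
def hMat (k : F) : Matrix (Fin 3) (Fin 3) F := !![k, 0, 0; 0, σ k / k, 0; 0, 0, (σ k)⁻¹]

/-- The exchanging matrix. -/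
def tMat : Matrix (Fin 3) (Fin 3) F := !![0, 0, 1; 0, -1, 0; 1, 0, 0]

/-- The scaling of the first parameter. -/
def lam (k : F) : F := k * k / σ k

variable {σ}

/-- Being the unipotent element with given parameters. -/
def IsU (m : J3 σ) (a b : F) : Prop := mat m = uMat σ a b

/-- Being the diagonal element with given parameter. -/
def IsH (m : J3 σ) (k : F) : Prop := mat m = hMat σ k

/-- Being the exchanging element. -/
def IsT (m : J3 σ) : Prop := mat m = tMat

theorem lam_mul (k l : F) : lam σ (k * l) = lam σ k * lam σ l := by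
  rw [lam, lam, lam, map_mul, div_mul_div_comm]; ring

theorem lam_one : lam σ (1 : F) = 1 := by simp [lam]

theorem lam_pow (k : F) : ∀ n : ℕ, lam σ (k ^ n) = lam σ k ^ n
  | 0 => by simp [lam]
  | n + 1 => by rw [pow_succ, pow_succ, lam_mul, lam_pow k n]

theorem lam_ne_zero {k : F} (hk : k ≠ 0) : lam σ k ≠ 0 :=
  div_ne_zero (mul_ne_zero hk hk) ((map_ne_zero σ).2 hk)

theorem exists_U (hσ : ∀ a, σ (σ a) = a) {a b : F} (hv : Valid σ a b) : ∃ m : J3 σ, IsU m a b := by
  refine exists_of_mat (by simp [uMat, det_fin_three]) fun x y => ?_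
  unfold Valid at hv
  simp only [jForm, uMat, mulVec, dotProduct, Fin.sum_univ_three, of_apply, cons_val', cons_val_zero,
    cons_val_one, cons_val, empty_val', cons_val_fin_one, one_mul, zero_mul, map_add, map_mul, map_neg,
    map_one, map_zero, hσ, zero_add, add_zero]
  linear_combination (x 2 * σ (y 2)) * hv

theorem exists_H (hσ : ∀ a, σ (σ a) = a) {k : F} (hk : k ≠ 0) : ∃ m : J3 σ, IsH m k := by
  have hk' : σ k ≠ 0 := (map_ne_zero σ).2 hk
  refine exists_of_mat (by simp [hMat, det_fin_three]; field_simp) fun x y => ?_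
  simp only [jForm, hMat, mulVec, dotProduct, Fin.sum_univ_three, of_apply, cons_val', cons_val_zero,
    cons_val_one, cons_val, empty_val', cons_val_fin_one, zero_mul, map_add, map_mul, map_div₀, map_inv₀,
    map_zero, hσ, zero_add, add_zero]
  field_simp

theorem exists_T : ∃ m : J3 σ, IsT m := by
  refine exists_of_mat (by simp [tMat, det_fin_three]) fun x y => ?_
  simp only [jForm, tMat, mulVec, dotProduct, Fin.sum_univ_three, of_apply, cons_val', cons_val_zero,
    cons_val_one, cons_val, empty_val', cons_val_fin_one, one_mul, zero_mul, map_add, map_mul, map_neg,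
    map_one, map_zero, zero_add, add_zero]
  ring

namespace IsU

variable {m n : J3 σ} {a b a' b' : F}

theorem entry01 (h : IsU m a b) : mat m 0 1 = a := by rw [h]; simp [uMat]

theorem entry02 (h : IsU m a b) : mat m 0 2 = b := by rw [h]; simp [uMat]

theorem unique (h : IsU m a b) (h' : IsU m a' b') : a = a' ∧ b = b' :=
  ⟨h.entry01.symm.trans h'.entry01, h.entry02.symm.trans h'.entry02⟩

theorem ext (h : IsU m a b) (h' : IsU n a' b') (ha : a = a') (hb : b = b') : m = n := by
  subst ha hb; exact mat_injective (Eq.trans h (Eq.symm h'))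

theorem valid (hσ : ∀ a, σ (σ a) = a) (h : IsU m a b) : Valid σ a b := by
  have := mat_preserves m ![0, 0, 1] ![0, 0, 1]
  rw [h] at this
  simp [jForm, uMat, mulVec, dotProduct, Fin.sum_univ_three, hσ] at this
  unfold Valid
  linear_combination this

theorem one : IsU (1 : J3 σ) 0 0 := by
  unfold IsU uMat
  ext i j; fin_cases i <;> fin_cases j <;> simp

theorem mul (h : IsU m a b) (h' : IsU n a' b') : IsU (m * n) (a + a') (b + b' - a * σ a') := by
  unfold IsU at *
  rw [mat_mul, h, h']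
  ext i j; fin_cases i <;> fin_cases j <;> simp [uMat, Matrix.mul_apply, Fin.sum_univ_three] <;> ring

theorem inv (hσ : ∀ a, σ (σ a) = a) (h : IsU m a b) : IsU m⁻¹ (-a) (σ b) := by
  have hv : Valid σ (-a) (σ b) := by
    have := (h.valid hσ)
    unfold Valid at *
    rw [hσ, map_neg]
    linear_combination this
  obtain ⟨n, hn⟩ := exists_U hσ hv
  have h1 : m * n = 1 := by
    refine ext (h.mul hn) one (add_neg_cancel a) ?_
    have := (h.valid hσ)
    unfold Valid at this
    rw [map_neg]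
    linear_combination this
  rw [inv_eq_of_mul_eq_one_right h1]
  exact hn

end IsU

namespace IsH

variable {m n : J3 σ} {k l : F}

theorem entry00 (h : IsH m k) : mat m 0 0 = k := by rw [h]; simp [hMat]

theorem ext (h : IsH m k) (h' : IsH n l) (hk : k = l) : m = n := by
  subst hk; exact mat_injective (Eq.trans h (Eq.symm h'))

theorem one : IsH (1 : J3 σ) 1 := by
  unfold IsH hMat
  ext i j; fin_cases i <;> fin_cases j <;> simp

theorem mul (h : IsH m k) (h' : IsH n l) : IsH (m * n) (k * l) := by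
  unfold IsH at *
  rw [mat_mul, h, h']
  ext i j; fin_cases i <;> fin_cases j <;> simp [hMat, Matrix.mul_apply, Fin.sum_univ_three] <;> ring

theorem pow (h : IsH m k) : ∀ r : ℕ, IsH (m ^ r) (k ^ r)
  | 0 => by simpa using one
  | r + 1 => by rw [pow_succ, pow_succ]; exact (pow h r).mul h

theorem ne_zero (h : IsH m k) : k ≠ 0 := by
  rintro rfl
  have h1 : (mat m).det = 1 := m.1.2
  rw [h] at h1
  simp [hMat, det_fin_three] at h1

theorem inv (hσ : ∀ a, σ (σ a) = a) (h : IsH m k) : IsH m⁻¹ k⁻¹ := by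
  obtain ⟨n, hn⟩ := exists_H hσ (inv_ne_zero h.ne_zero)
  have h1 : m * n = 1 := ext (h.mul hn) one (mul_inv_cancel₀ h.ne_zero)
  rw [inv_eq_of_mul_eq_one_right h1]
  exact hn

theorem conj_U (hσ : ∀ a, σ (σ a) = a) {u : J3 σ} {a b : F} (h : IsH m k) (hu : IsU u a b) :
    IsU (m * u * m⁻¹) (lam σ k * a) (k * σ k * b) := by
  have hk := h.ne_zero
  have hk' : σ k ≠ 0 := (map_ne_zero σ).2 hk
  have h' := h.inv hσ
  unfold IsU IsH at *
  rw [mat_mul, mat_mul, h, hu, h']
  ext i j
  fin_cases i <;> fin_cases j <;>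
    simp [uMat, hMat, lam, Matrix.mul_apply, Fin.sum_univ_three, map_mul, map_div₀, hσ] <;> field_simp

end IsH

theorem IsT.sq {m : J3 σ} (h : IsT m) : m * m = 1 := by
  apply mat_injective
  rw [mat_mul, h, mat_one]
  ext i j; fin_cases i <;> fin_cases j <;> simp [tMat, Matrix.mul_apply, Fin.sum_univ_three]

theorem IsT.conj_H (hσ : ∀ a, σ (σ a) = a) {m n : J3 σ} {k : F} (h : IsT m) (hn : IsH n k) :
    IsH (m * n * m) (σ k)⁻¹ := by
  have hk := hn.ne_zero
  have hk' : σ k ≠ 0 := (map_ne_zero σ).2 hk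
  unfold IsT IsH at *
  rw [mat_mul, mat_mul, h, hn]
  ext i j
  fin_cases i <;> fin_cases j <;>
    simp [tMat, hMat, Matrix.mul_apply, Fin.sum_univ_three, hσ] <;> field_simp

/-- The decomposition of a conjugate of a non-trivial unipotent element. -/
theorem IsT.conj_U (hσ : ∀ a, σ (σ a) = a) {t u u₁ h u₂ : J3 σ} {a b : F} (ht : IsT t)
    (hu : IsU u a b) (hb : b ≠ 0) (h1 : IsU u₁ (-a / σ b) b⁻¹) (hh : IsH h (σ b)⁻¹)
    (h2 : IsU u₂ (-a / b) b⁻¹) : t * u * t = u₁ * h * t * u₂ := by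
  have hv := hu.valid hσ
  unfold Valid at hv
  have hb' : σ b ≠ 0 := (map_ne_zero σ).2 hb
  apply mat_injective
  unfold IsT IsU IsH at *
  simp only [mat_mul]
  rw [ht, hu, h1, hh, h2]
  ext i j
  fin_cases i <;> fin_cases j <;>
    simp [tMat, uMat, hMat, Matrix.mul_apply, Fin.sum_univ_three, hσ] <;> field_simp <;>
    first | ring1 | linear_combination hv | linear_combination -hv | skip

theorem valid_neg_div (hσ : ∀ a, σ (σ a) = a) {a b : F} (hv : Valid σ a b) (hb : b ≠ 0) :
    Valid σ (-a / σ b) b⁻¹ ∧ Valid σ (-a / b) b⁻¹ := by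
  have hb' : σ b ≠ 0 := (map_ne_zero σ).2 hb
  unfold Valid at *
  constructor <;> simp only [map_inv₀, map_div₀, map_neg, hσ] <;> field_simp <;> linear_combination hv

/-- The parameters in a decomposition are determined. -/
theorem IsT.conj_U_unique (hσ : ∀ a, σ (σ a) = a) {t u u₁ h u₂ : J3 σ} {a b a₁ b₁ k a₂ b₂ : F}
    (ht : IsT t) (hu : IsU u a b) (h1 : IsU u₁ a₁ b₁) (hh : IsH h k) (h2 : IsU u₂ a₂ b₂)
    (he : t * u * t = u₁ * h * t * u₂) :
    b ≠ 0 ∧ a₁ = -a / σ b ∧ b₁ = b⁻¹ ∧ a₂ = -a / b ∧ b₂ = b⁻¹ := by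
  have hk' : σ k ≠ 0 := (map_ne_zero σ).2 hh.ne_zero
  have he' : tMat * uMat σ a b * tMat = uMat σ a₁ b₁ * hMat σ k * tMat * uMat σ a₂ b₂ := by
    rw [← hu, ← h1, ← hh, ← h2, ← ht]; exact congrArg mat he
  have e20 := congrFun (congrFun he' 2) 0
  have e00 := congrFun (congrFun he' 0) 0
  have e10 := congrFun (congrFun he' 1) 0
  have e21 := congrFun (congrFun he' 2) 1
  have e22 := congrFun (congrFun he' 2) 2
  simp [tMat, uMat, hMat, Matrix.mul_apply, Fin.sum_univ_three] at e20 e00 e10 e21 e22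
  have hb : b ≠ 0 := by rw [e20]; exact inv_ne_zero hk'
  have hsk : σ k = b⁻¹ := by rw [e20, inv_inv]
  rw [hsk, inv_inv] at e00 e10 e21 e22
  refine ⟨hb, ?_, ?_, ?_, ?_⟩
  · have := congrArg σ e10
    simp only [map_mul, map_neg, hσ] at this
    rw [eq_div_iff ((map_ne_zero σ).2 hb)]
    linear_combination this
  · exact eq_inv_of_mul_eq_one_left e00.symm
  · rw [eq_div_iff hb]; linear_combination -e21
  · exact eq_inv_of_mul_eq_one_right e22.symm

theorem mul_ne_one {u₁ h t u₂ : J3 σ} {a₁ b₁ k a₂ b₂ : F} (h1 : IsU u₁ a₁ b₁) (hh : IsH h k)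
    (ht : IsT t) (h2 : IsU u₂ a₂ b₂) : u₁ * h * t * u₂ ≠ 1 := by
  intro he
  have he' : uMat σ a₁ b₁ * hMat σ k * tMat * uMat σ a₂ b₂ = 1 := by
    rw [← h1, ← hh, ← ht, ← h2]; exact congrArg mat he
  have e20 := congrFun (congrFun he' 2) 0
  simp [tMat, uMat, hMat, Matrix.mul_apply, Fin.sum_univ_three, hh.ne_zero] at e20

theorem mul_eq_one {u h : J3 σ} {a b k : F} (hu : IsU u a b) (hh : IsH h k) (he : u * h = 1) :
    k = 1 ∧ u = 1 := by
  have he' : uMat σ a b * hMat σ k = 1 := by rw [← hu, ← hh]; exact congrArg mat he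
  have e00 := congrFun (congrFun he' 0) 0
  simp [uMat, hMat, Matrix.mul_apply, Fin.sum_univ_three] at e00
  subst e00
  have h1 : h = 1 := hh.ext IsH.one rfl
  rw [h1, mul_one] at he
  exact ⟨rfl, he⟩

/-- Fixing the first axis means being triangular. -/
theorem exists_borel (hσ : ∀ a, σ (σ a) = a) (m : J3 σ) (h10 : mat m 1 0 = 0) (h20 : mat m 2 0 = 0) :
    ∃ (u h : J3 σ) (a b k : F), IsU u a b ∧ IsH h k ∧ m = u * h := by
  have hd : (mat m).det = 1 := m.1.2
  rw [det_fin_three] at hd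
  have hP : ∀ i j, jForm σ (mat m *ᵥ Pi.single i 1) (mat m *ᵥ Pi.single j 1) =
      jForm σ (Pi.single i 1) (Pi.single j 1) := fun i j => mat_preserves m _ _
  have p10 := hP 1 0; have p20 := hP 2 0; have p21 := hP 2 1; have p22 := hP 2 2
  simp [jForm, h10, h20] at p10 p20 p21 p22
  have hk : mat m 0 0 ≠ 0 := fun h0 => by simp [h0, h10, h20] at hd
  have hk' : σ (mat m 0 0) ≠ 0 := (map_ne_zero σ).2 hk
  have h21 : mat m 2 1 = 0 := by
    rcases p10 with h | h
    · exact h
    · exact absurd h hk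
  have h22 : mat m 2 2 = (σ (mat m 0 0))⁻¹ := eq_inv_of_mul_eq_one_left p20
  have h11 : mat m 1 1 = σ (mat m 0 0) / mat m 0 0 := by
    rw [h10, h20, h21, h22] at hd
    field_simp at hd ⊢
    linear_combination hd
  set k := mat m 0 0
  set a := mat m 0 1 * k / σ k with ha
  set b := mat m 0 2 * σ k with hb
  have h01 : mat m 0 1 = a * (σ k / k) := by rw [ha]; field_simp
  have h02 : mat m 0 2 = b * (σ k)⁻¹ := by rw [hb]; field_simp
  have h12 : mat m 1 2 = -σ a * (σ k)⁻¹ := by
    rw [h21, h22, h11, h01] at p21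
    simp only [map_zero, mul_zero, zero_add, map_mul, map_div₀, hσ] at p21
    field_simp at p21 ⊢
    rw [mul_zero, mul_eq_zero] at p21
    linear_combination (p21.resolve_left hk)
  have hv : Valid σ a b := by
    rw [h22, h02, h12] at p22
    simp only [map_mul, map_neg, map_inv₀, hσ] at p22
    unfold Valid
    field_simp at p22
    linear_combination p22
  obtain ⟨u, hu⟩ := exists_U hσ hv
  obtain ⟨h, hh⟩ := exists_H hσ hk
  refine ⟨u, h, a, b, k, hu, hh, mat_injective ?_⟩
  rw [mat_mul, hu, hh]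
  ext i j
  fin_cases i <;> fin_cases j <;>
    simp [uMat, hMat, Matrix.mul_apply, Fin.sum_univ_three, h10, h20, h21, h22, h11, h01, h02, h12, k]

/-- The big cell. -/
theorem exists_cell (hσ : ∀ a, σ (σ a) = a) {t : J3 σ} (ht : IsT t) (m : J3 σ)
    (hm : ¬ (mat m 1 0 = 0 ∧ mat m 2 0 = 0)) :
    ∃ (u h : J3 σ) (a b k : F) (m' : J3 σ), IsU u a b ∧ IsH h k ∧
      (mat m' 1 0 = 0 ∧ mat m' 2 0 = 0) ∧ m = u * h * t * m' := by
  have hiso := mat_preserves m (Pi.single 0 1) (Pi.single 0 1)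
  simp [jForm] at hiso
  have hv2 : mat m 2 0 ≠ 0 := by
    intro h2
    refine hm ⟨?_, h2⟩
    simp [h2] at hiso
    exact hiso
  set v0 := mat m 0 0
  set v1 := mat m 1 0
  set v2 := mat m 2 0
  have hv2' : σ v2 ≠ 0 := (map_ne_zero σ).2 hv2
  have hv : Valid σ (-σ (v1 / v2)) (v0 / v2) := by
    unfold Valid
    simp only [map_neg, hσ, map_div₀]
    field_simp
    linear_combination hiso
  obtain ⟨u, hu⟩ := exists_U hσ hv
  obtain ⟨h, hh⟩ := exists_H hσ (k := (σ v2)⁻¹) (inv_ne_zero hv2')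
  refine ⟨u, h, _, _, _, t * h⁻¹ * u⁻¹ * m, hu, hh, ?_, ?_⟩
  · have e1 := hh.inv hσ
    have e2 := hu.inv hσ
    rw [mat_mul, mat_mul, mat_mul, ht, e1, e2]
    constructor <;>
      simp [tMat, uMat, hMat, Matrix.mul_apply, Fin.sum_univ_three, hσ, map_div₀, map_inv₀] <;>
      field_simp <;> first | linear_combination hiso | ring
  · have := ht.sq
    simp only [← mul_assoc]
    rw [mul_assoc (u * h) t t, this]
    group

end CfsgLib.SU3Pres
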