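import Cfsg.Agent.Lib.SU3Pres.Quot

/-!
Eleven relations for the unipotent group of `SU₃(8)`.
-/

set_option autoImplicit false
set_option linter.unusedSectionVars false

namespace CfsgLib.SU3Pres

open Polynomial
open CfsgLib.PresentSL2 CfsgLib.BoundedPres

variable {F : Type*} [Field F] [Fintype F] {σ : F →+* F} {P : Par σ} (gs : Gens P)

theorem Par.e_eq_three (h8 : P.q = 8) : P.e = 3 := by
  have hp : P.p = 2 := by
    have h : P.p ∣ 2 ^ 3 := by
      show P.p ∣ 8
      rw [← h8, P.hqe]; exact dvd_pow_self _ P.he.ne'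
    exact (Nat.prime_dvd_prime_iff_eq P.hp Nat.prime_two).1 (P.hp.dvd_of_dvd_pow h)
  have h := P.hqe
  rw [hp, h8] at h
  exact (Nat.pow_right_injective le_rfl (show 2 ^ 3 = 2 ^ P.e from h)).symm

/-- The combination polynomial. -/
noncomputable def combPoly (c : ℕ → ℤ) (r : ℕ) : ℤ[X] := ∑ i ∈ Finset.range r, monomial i (c i)

theorem aeval_combPoly {K : Type*} [CommRing K] (x : K) (c : ℕ → ℤ) (r : ℕ) :
    aeval x (combPoly c r) = ∑ i ∈ Finset.range r, c i • x ^ i := by
  rw [combPoly, map_sum]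
  exact Finset.sum_congr rfl fun i _ => by simp [aeval_monomial, zsmul_eq_mul]

theorem ev_combPoly_mem {G : Type*} [Group G] (a u : G) (c : ℕ → ℤ) (r : ℕ) (hr : 0 < r) :
    ev a u (combPoly c r) ∈ Subgroup.closure (cj a u '' Set.Iio r) := by
  rw [ev]
  refine list_prod_mem fun x hx => ?_
  rw [List.mem_map] at hx
  obtain ⟨l, hl, rfl⟩ := hx
  rw [List.mem_range] at hl
  refine zpow_mem (Subgroup.subset_closure ?_) _
  refine ⟨l, ?_, rfl⟩
  rw [Set.mem_Iio]
  have hd : (combPoly c r).natDegree ≤ r - 1 := natDegree_sum_le_of_forall_le _ _ fun i hi =>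
    (natDegree_monomial_le _).trans (by rw [Finset.mem_range] at hi; omega)
  omega

/-- Commutation with all conjugates from commutation with finitely many. -/
theorem commute_of_window {G : Type*} [Group G] {a u : G} {r : ℕ} (hr : 0 < r)
    (h : ∀ l < r, Commute u (cj a u l)) (hW : cj a u r ∈ Subgroup.closure (cj a u '' Set.Iio r)) :
    ∀ n, Commute u (cj a u n) := by
  set H := Subgroup.closure (cj a u '' Set.Iio r) with hH
  have hsym : ∀ k < r, ∀ l < r, Commute (cj a u k) (cj a u l) := by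
    intro k hk l hl
    wlog hkl : k ≤ l generalizing k l
    · exact (this l hl k hk (by omega)).symm
    obtain ⟨d, rfl⟩ := Nat.exists_eq_add_of_le hkl
    rw [cj_add]
    exact (h d (by omega)).map (MulAut.conj (a ^ k)).toMonoidHom
  have hab : IsMulCommutative H := Subgroup.isMulCommutative_closure
    (k := cj a u '' Set.Iio r)
    (by rintro _ ⟨k, hk, rfl⟩ _ ⟨l, hl, rfl⟩; exact (hsym k hk l hl).eq)
  have hinv : H.map (MulAut.conj a).toMonoidHom ≤ H := by
    rw [hH, MonoidHom.map_closure, Subgroup.closure_le]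
    rintro _ ⟨_, ⟨l, hl, rfl⟩, rfl⟩
    rw [Set.mem_Iio] at hl
    have e : (MulAut.conj a).toMonoidHom (cj a u l) = cj a u (1 + l) := by rw [cj_add, pow_one]; rfl
    rw [e]
    rcases Nat.lt_or_ge (1 + l) r with hlt | hge
    · exact Subgroup.subset_closure ⟨_, hlt, rfl⟩
    · rw [show 1 + l = r by omega]; exact hW
  have hall : ∀ n, cj a u n ∈ H := by
    intro n
    induction n with
    | zero => exact Subgroup.subset_closure ⟨0, hr, rfl⟩
    | succ n ih =>
      rw [add_comm n 1, cj_add, pow_one]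
      exact hinv ⟨_, ih, rfl⟩
  intro n
  have := hab.is_comm.comm ⟨_, hall 0⟩ ⟨_, hall n⟩
  show u * _ = _ * u
  simpa [cj_zero] using congrArg Subtype.val this

set_option maxHeartbeats 1000000 in
/-- Relations for the unipotent group of `SU₃(8)`. -/
theorem Gens.exists_U_eight (h8 : P.q = 8) : ∃ L : List (FreeGroup (Fin 3)), L.length ≤ 11 ∧
    Kills gs.v L ∧ ∀ (G : Type) [Group G] (φ : G →* J3 σ) (f : Fin 3 → G), (∀ x, φ (f x) = gs.v x) →
      IsFieldHom P.x0K (f 1) (FreeGroup.lift f wc) → Kills f L →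
      ∀ k ∈ Kg f, φ k = 1 → k = 1 := by
  haveI := Fact.mk P.hp
  haveI := P.charP
  haveI : CharP (Par.K0 (σ := σ)) P.p :=
    ((Par.K0 (σ := σ)).subtype.charP_iff Subtype.val_injective P.p).2 P.charP
  classical
  have he : P.e = 3 := P.e_eq_three h8
  obtain ⟨D0⟩ := P.polyData_K0 P.x0K fun d hd hde => P.x0_gen hd hde
  obtain ⟨D⟩ := P.polyData_lam
  obtain ⟨c, hc⟩ := exists_comb (p := P.p) (r := 6)
    (by rw [P.card, P.hqe, he, ← pow_mul]) (lam σ P.g)
  have hu : HasA (FreeGroup.lift gs.v fU) 1 := ⟨gs.z1, by rw [Gens.lift_fU]; exact gs.hu⟩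
  have hone : HasA (FreeGroup.lift gs.v 1) (0 : F) := by rw [map_one]; exact HasA.one
  have hcj : ∀ l, HasA (FreeGroup.lift gs.v (cj fH fU l)) (lam σ P.g ^ l) := by
    intro l
    obtain ⟨b, hb⟩ := gs.cj_u 1 l
    rw [pow_one, pow_one] at hb
    exact ⟨b, by rw [map_cj, Gens.lift_fH, Gens.lift_fU]; exact hb⟩
  have hev : ∀ Q : ℤ[X], HasA (FreeGroup.lift gs.v (ev fH fU Q)) (aeval (lam σ P.g) Q) := by
    intro Q
    have := gs.hasA_ev 1 Q
    rw [pow_one, pow_one] at this
    rwa [map_ev, Gens.lift_fH, Gens.lift_fU]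
  have hup : HasA (FreeGroup.lift gs.v (fU ^ P.p)) (P.p • (1 : F)) := by rw [map_pow]; exact hu.pow _
  have hab : ∀ l, ∃ Q : ℤ[X], FreeGroup.lift gs.v (fU * cj fH fU l) =
      FreeGroup.lift gs.v (ev fH wc Q * (cj fH fU l * fU)) := fun l => by
    refine gs.exists_zword (D := D0) ?_ ?_ (add_comm (1 : F) (lam σ P.g ^ l))
    · rw [map_mul]; exact hu.mul (hcj l)
    · rw [map_mul]; exact (hcj l).mul hu
  choose Qc hQc using hab
  obtain ⟨QW, hQW⟩ := gs.exists_zword (D := D0) (hcj 6) (hev (combPoly c 6))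
    (by rw [aeval_combPoly]; exact hc)
  obtain ⟨Q3, hQ3⟩ := gs.exists_zword (D := D0) hup hone (P.char_nsmul 1)
  obtain ⟨Q4, hQ4⟩ := gs.exists_zword (D := D0) (hev D.M) hone D.root
  let R1 : ℕ → FreeGroup (Fin 3) := fun l => eqw (fU * cj fH wc l) (cj fH wc l * fU)
  let R2 : ℕ → FreeGroup (Fin 3) := fun l => eqw (fU * cj fH fU l) (ev fH wc (Qc l) * (cj fH fU l * fU))
  let L : List (FreeGroup (Fin 3)) := [R1 0, R1 1, R1 2, R2 1, R2 2, R2 3, R2 4, R2 5,
    eqw (cj fH fU 6) (ev fH wc QW * ev fH fU (combPoly c 6)), eqw (fU ^ P.p) (ev fH wc Q3 * 1),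
    eqw (ev fH fU D.M) (ev fH wc Q4 * 1)]
  refine ⟨L, le_rfl, fun w hw => ?_, ?_⟩
  · have k1 : ∀ l, FreeGroup.lift gs.v (R1 l) = 1 := fun l => by
      rw [lift_eqw, map_mul, map_mul, Gens.lift_fU, map_cj, Gens.lift_fH, ← gs.zT_one]
      simp only [cj]
      rw [shift_pow (zT P) gs.zT_shift]
      exact (gs.hu.commute_central (zT_spec P _)).eq
    have k2 : ∀ l, FreeGroup.lift gs.v (R2 l) = 1 := fun l => by rw [lift_eqw]; exact hQc l
    simp only [L, List.mem_cons, List.not_mem_nil, or_false] at hw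
    rcases hw with rfl | rfl | rfl | rfl | rfl | rfl | rfl | rfl | rfl | rfl | rfl
    any_goals exact k1 _
    any_goals exact k2 _
    all_goals rw [lift_eqw]
    exacts [hQW, hQ3, hQ4]
  · intro G _ φ f hf hΦ hL
    obtain ⟨Φ, h1, hx⟩ := hΦ
    have lH : FreeGroup.lift f fH = f 1 := by simp [fH]
    have lU : FreeGroup.lift f fU = f 0 := by simp [fU]
    have lz : ∀ Q, FreeGroup.lift f (ev fH wc Q) = Φ (Multiplicative.ofAdd (aeval P.x0K Q)) := by
      intro Q
      rw [map_ev, lH, ev_of_field_hom Φ h1 hx]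
    have e : ∀ {A B}, eqw A B ∈ L → FreeGroup.lift f A = FreeGroup.lift f B := fun h =>
      (lift_eqw f _ _).1 (hL _ h)
    have e1 : ∀ l, l < 3 → Commute (f 0) (Φ (Multiplicative.ofAdd (P.x0K ^ l))) := by
      intro l hl
      have := e (A := fU * cj fH wc l) (B := cj fH wc l * fU) (by interval_cases l <;> simp [L, R1])
      simp only [map_mul, map_cj, lH, lU, ← h1] at this
      simp only [cj, shift_pow Φ hx, mul_one] at this
      exact this
    have e2 : ∀ l, 1 ≤ l → l ≤ 5 → f 0 * cj (f 1) (f 0) l =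
        Φ (Multiplicative.ofAdd (aeval P.x0K (Qc l))) * (cj (f 1) (f 0) l * f 0) := by
      intro l h1l h5l
      have := e (A := fU * cj fH fU l) (B := ev fH wc (Qc l) * (cj fH fU l * fU))
        (by interval_cases l <;> simp [L, R2])
      simpa [map_cj, lz, lH, lU] using this
    have e3 := e (A := cj fH fU 6) (B := ev fH wc QW * ev fH fU (combPoly c 6)) (by simp [L])
    have e4 := e (A := fU ^ P.p) (B := ev fH wc Q3 * 1) (by simp [L])
    have e5 := e (A := ev fH fU D.M) (B := ev fH wc Q4 * 1) (by simp [L])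
    clear e
    simp only [map_mul, map_pow, map_one, mul_one, lz, lH, lU, map_cj] at e3 e4 e5
    simp only [map_ev, lH, lU] at e3 e5
    have hcomm : ∀ y, Commute (f 0) (Φ (Multiplicative.ofAdd y)) := by
      let S : AddSubgroup (Par.K0 (σ := σ)) :=
        { carrier := {y | Commute (f 0) (Φ (Multiplicative.ofAdd y))}
          zero_mem' := by
            show Commute _ _
            rw [ofAdd_zero, map_one]; exact Commute.one_right _
          add_mem' := fun {y z} hy hz => by
            show Commute _ _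
            rw [ofAdd_add, map_mul]; exact hy.mul_right hz
          neg_mem' := fun {y} hy => by
            show Commute _ _
            rw [ofAdd_neg, map_inv]; exact hy.inv_right }
      obtain ⟨c0, hc0⟩ := exists_comb (p := P.p) (r := 3)
        (by rw [← Nat.card_eq_fintype_card, P.card_K0, he]) P.x0K
      have hpow : ∀ n, P.x0K ^ n ∈ S := by
        intro n
        induction n using Nat.strong_induction_on with
        | _ n ih =>
          rcases Nat.lt_or_ge n 3 with hn | hn
          · exact e1 n hn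
          · rw [show n = (n - 3) + 3 by omega, pow_add, hc0, Finset.mul_sum]
            refine sum_mem fun i hi => ?_
            rw [mul_smul_comm, ← pow_add]
            rw [Finset.mem_range] at hi
            exact zsmul_mem (ih _ (by omega)) _
      intro y
      obtain ⟨Q, rfl⟩ := D0.surj y
      simp only
      rw [aeval_eq_sum_range]
      exact (sum_mem fun i _ => zsmul_mem (hpow i) _ : _ ∈ S)
    have hU : f 0 ∈ Nz Φ := mem_Nz_of_commute hcomm
    have hH : f 1 ∈ Nz Φ := h_mem_Nz hx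
    set U : Nz Φ := ⟨f 0, hU⟩
    set H : Nz Φ := ⟨f 1, hH⟩
    have hzr : ∀ Q : ℤ[X], Φ (Multiplicative.ofAdd (aeval P.x0K Q)) ∈ Φ.range := fun Q => ⟨_, rfl⟩
    have q2 : ∀ l < 6, Commute (QuotientGroup.mk U : Qt Φ) (cj (QuotientGroup.mk H : Qt Φ) (QuotientGroup.mk U) l) := by
      intro l hl
      rcases Nat.eq_zero_or_pos l with rfl | hl0
      · rw [cj_zero]
      have := mk_eq_of_eq_mul (Φ := Φ) (A := U * cj H U l) (B := cj H U l * U) (hzr (Qc l))
        (by simpa [coe_cj] using e2 l hl0 (by omega))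
      simp only [QuotientGroup.mk_mul, mk_cj] at this
      exact this
    have q3 := mk_eq_of_eq_mul (Φ := Φ) (A := cj H U 6) (B := ev H U (combPoly c 6)) (hzr QW)
      (by simpa [coe_cj, coe_ev] using e3)
    have q4 := mk_eq_of_eq_mul (Φ := Φ) (A := U ^ P.p) (B := 1) (hzr Q3) (by simpa using e4)
    have q5 := mk_eq_of_eq_mul (Φ := Φ) (A := ev H U D.M) (B := 1) (hzr Q4)
      (by simpa [coe_ev] using e5)
    simp only [QuotientGroup.mk_pow, QuotientGroup.mk_one, mk_cj, mk_ev] at q3 q4 q5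
    obtain ⟨Ψ⟩ := nonempty_polyHom ((QuotientGroup.mk H : Qt Φ) ^ 1) (QuotientGroup.mk U)
      (by
        simp only [pow_one]
        exact commute_of_window (r := 6) (by norm_num) q2 (q3 ▸ ev_combPoly_mem _ _ c 6 (by norm_num)))
    refine gs.injOn hf h1 hx hH hU (field_hom D 1 Ψ q4 (by rw [pow_one]; exact q5) X (aeval_X _) ?_)
    rw [Ψ.ev_eq, ← pow_one (X : ℤ[X]), Ψ.X_pow]
    simp only [cj, pow_one]
    rfl

end CfsgLib.SU3Pres
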