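import Cfsg.Agent.Lib.SU3Pres.UnipGen
import Cfsg.Agent.Lib.SU3Pres.UnipEight
import Cfsg.Agent.Lib.SU3Pres.Closure
import Cfsg.Agent.Lib.BoundedPres.On

/-!
The presentation of the model with three generators and at most twenty-two relations, and the
cyclic centre.
-/

set_option autoImplicit false
set_option linter.unusedSectionVars false

namespace CfsgLib.SU3Pres

open CfsgLib.PresentSL2 CfsgLib.BoundedPres

variable {F : Type*} [Field F] [Fintype F] {σ : F →+* F} (P : Par σ)

theorem Par.seed_ok (i : Fin 4) : Valid σ (Gens.seed (P := P) i).1 (Gens.seed (P := P) i).2 ∧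
    (Gens.seed (P := P) i).2 ≠ 0 := by
  by_cases hi : i = 0
  · subst hi
    simp only [Gens.seed, if_true]
    refine ⟨?_, P.delta_ne⟩
    unfold Valid
    rw [P.delta_skew]; simp
  · simp only [Gens.seed, if_neg hi]
    have hω : P.om ≠ 1 := by simpa using P.om_pow_ne_one le_rfl (by have := P.four_le; omega)
    have h1 : σ P.om * P.om = 1 := by simpa using P.om_pow_unit 1
    refine ⟨(bOf_spec P.hσ h1 hω).1, ?_⟩
    have hg := pow_ne_zero ((i : ℕ) - 1) P.g_ne
    exact div_ne_zero (neg_ne_zero.2 (mul_ne_zero hg ((map_ne_zero σ).2 hg))) (sub_ne_zero.2 hω.symm)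

include P in
/-- The presentation of the model. -/
theorem presOn_model : PresOn (Fin 3) (J3 σ) 22 := by
  classical
  obtain ⟨gs⟩ := exists_gens P
  have : Finite (J3 σ) := inferInstance
  obtain ⟨LZ, hLZ, kZ, cZ⟩ := gs.exists_Z
  obtain ⟨LU, hLU, kU, cU⟩ : ∃ L : List (FreeGroup (Fin 3)), L.length ≤ 11 ∧
      Kills gs.v L ∧ ∀ (G : Type) [Group G] (φ : G →* J3 σ) (f : Fin 3 → G), (∀ x, φ (f x) = gs.v x) →
        IsFieldHom P.x0K (f 1) (FreeGroup.lift f wc) → Kills f L →
        ∀ k ∈ Kg f, φ k = 1 → k = 1 := by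
    by_cases h8 : P.q = 8
    · exact gs.exists_U_eight h8
    · obtain ⟨L, hL, h⟩ := gs.exists_U_generic h8
      exact ⟨L, hL.trans (by norm_num), h⟩
  obtain ⟨n₀, hn₀⟩ := P.g_surj (σ P.g)⁻¹ (inv_ne_zero ((map_ne_zero σ).2 P.g_ne))
  have hseed : ∀ i : Fin 4, ∃ (W A B : FreeGroup (Fin 3)) (n : ℕ),
      IsU (FreeGroup.lift gs.v W) (Gens.seed (P := P) i).1 (Gens.seed (P := P) i).2 ∧
      W ∈ Kg (FreeGroup.of : Fin 3 → _) ∧ A ∈ Kg (FreeGroup.of : Fin 3 → _) ∧
      B ∈ Kg (FreeGroup.of : Fin 3 → _) ∧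
      FreeGroup.lift gs.v (fT * W * fT) = FreeGroup.lift gs.v (A * fH ^ n * fT * B) := by
    intro i
    obtain ⟨hv, hb⟩ := P.seed_ok i
    obtain ⟨h1, h2⟩ := valid_neg_div P.hσ hv hb
    obtain ⟨W, hW, mW⟩ := gs.exists_word_U hv
    obtain ⟨A, hA, mA⟩ := gs.exists_word_U h1
    obtain ⟨B, hB, mB⟩ := gs.exists_word_U h2
    obtain ⟨n, hn⟩ := P.g_surj (σ (Gens.seed (P := P) i).2)⁻¹ (inv_ne_zero ((map_ne_zero σ).2 hb))
    refine ⟨W, A, B, n, hW, mW, mA, mB, ?_⟩
    simp only [map_mul, map_pow, Gens.lift_fT, Gens.lift_fH]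
    exact gs.ht.conj_U P.hσ hW hb hA (by rw [hn]; exact gs.hh.pow n) hB
  choose W A B n hW mW mA mB hrel using hseed
  let LT : List (FreeGroup (Fin 3)) := [fH ^ P.N, fT * fT, eqw (fT * fH * fT) (fH ^ n₀)]
  let LS : List (FreeGroup (Fin 3)) :=
    List.ofFn fun i => eqw (fT * W i * fT) (A i * fH ^ n i * fT * B i)
  have hlen : (LZ ++ LU ++ LT ++ LS).length ≤ 22 := by
    simp only [List.length_append, LT, LS, List.length_ofFn, List.length_cons, List.length_nil]
    omega
  refine (PresOn.of_bound gs.v (LZ ++ LU ++ LT ++ LS) ?_ gs.closure_eq_top ?_).mono hlen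
  · intro w hw
    simp only [List.mem_append] at hw
    rcases hw with ((hw | hw) | hw) | hw
    · exact kZ w hw
    · exact kU w hw
    · simp only [LT, List.mem_cons, List.not_mem_nil, or_false] at hw
      rcases hw with rfl | rfl | rfl
      · rw [map_pow, Gens.lift_fH]
        exact (gs.hh.pow _).ext IsH.one P.g_pow_N
      · rw [map_mul, Gens.lift_fT]; exact gs.ht.sq
      · rw [lift_eqw, map_mul, map_mul, map_pow, Gens.lift_fH, Gens.lift_fT]
        exact (gs.ht.conj_H P.hσ gs.hh).ext (gs.hh.pow n₀) hn₀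
    · obtain ⟨i, rfl⟩ := (List.mem_ofFn).1 hw
      rw [lift_eqw]; exact hrel i
  · intro G _ φ f hf hgen hL
    have hL' : ∀ {M : List (FreeGroup (Fin 3))}, (∀ w ∈ M, w ∈ LZ ++ LU ++ LT ++ LS) → Kills f M :=
      fun h w hw => hL w (h w hw)
    have hinjK := cU G φ f hf (cZ G φ f hf (hL' fun w hw => by simp [hw])) (hL' fun w hw => by simp [hw])
    have e1 := hL (fH ^ P.N) (by simp [LT])
    have e2 := hL (fT * fT) (by simp [LT])
    have e3 := (lift_eqw f _ _).1 (hL (eqw (fT * fH * fT) (fH ^ n₀)) (by simp [LT]))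
    have lH : FreeGroup.lift f fH = f 1 := by simp [fH]
    have lT : FreeGroup.lift f fT = f 2 := by simp [fT]
    simp only [map_pow, map_mul, lH, lT] at e1 e2 e3
    have hinj : Function.Injective φ := by
      refine gs.injective_of_relations φ f hf hgen hinjK e1 e2 e3 fun i => ?_
      refine ⟨_, lift_mem_Kg f (mW i), by rw [hom_lift φ hf]; exact hW i, _, lift_mem_Kg f (mA i),
        n i, _, lift_mem_Kg f (mB i), ?_⟩
      have := (lift_eqw f _ _).1 (hL (eqw (fT * W i * fT) (A i * fH ^ n i * fT * B i))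
        (List.mem_append_right _ (List.mem_ofFn.2 ⟨i, rfl⟩)))
      simpa only [map_mul, map_pow, lH, lT] using this
    haveI : Finite G := Finite.of_injective φ hinj
    exact ⟨inferInstance, Nat.card_le_card_of_injective φ hinj⟩

include P in
/-- The centre is the normal closure of one element. -/
theorem center_normalClosure : ∃ z, Subgroup.center (J3 σ) = Subgroup.normalClosure {z} := by
  obtain ⟨gs⟩ := exists_gens P
  have hσ := P.hσ
  have key : ∀ m ∈ Subgroup.center (J3 σ), IsH m (mat m 0 0) := by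
    intro m hm
    have hc : ∀ x, m * x = x * m := fun x => (Subgroup.mem_center_iff.1 hm x).symm
    have e1 : uMat σ 1 gs.z1 * mat m = mat m * uMat σ 1 gs.z1 := by
      rw [← gs.hu, ← mat_mul, ← mat_mul, hc]
    have e00 := congrFun (congrFun e1 0) 0
    have e10 := congrFun (congrFun e1 1) 0
    simp [uMat, Matrix.mul_apply, Fin.sum_univ_three] at e10 e00
    have h20 : mat m 2 0 = 0 := e10
    have h10 : mat m 1 0 = 0 := by simpa [h20] using e00
    obtain ⟨u, h, a, b, k, hu, hh, rfl⟩ := exists_borel hσ m h10 h20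
    have e2 : (mat (u * h) * tMat : Matrix (Fin 3) (Fin 3) F) = tMat * mat (u * h) := by
      rw [← gs.ht, ← mat_mul, ← mat_mul, hc]
    rw [mat_mul, hu, hh] at e2
    have hk := hh.ne_zero
    have hk' : σ k ≠ 0 := (map_ne_zero σ).2 hk
    have f00 := congrFun (congrFun e2 0) 0
    have f01 := congrFun (congrFun e2 0) 1
    simp [uMat, hMat, tMat, Matrix.mul_apply, Fin.sum_univ_three, hk, hk'] at f00 f01
    have hu1 : u = 1 := hu.ext IsU.one f01 f00
    rw [hu1, one_mul, hh.entry00]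
    exact hh
  haveI : IsCyclic (Subgroup.center (J3 σ)) := by
    refine isCyclic_of_subgroup_isDomain
      ({ toFun := fun m => mat (m : J3 σ) 0 0
         map_one' := by simp
         map_mul' := fun m l => ((key _ m.2).mul (key _ l.2)).entry00 } :
        Subgroup.center (J3 σ) →* F) ?_
    intro m l h
    exact Subtype.ext ((key _ m.2).ext (key _ l.2) h)
  obtain ⟨z, hz⟩ := IsCyclic.exists_generator (α := Subgroup.center (J3 σ))
  refine ⟨(z : J3 σ), le_antisymm (fun g hg => ?_) (Subgroup.normalClosure_le_normal (by simp))⟩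
  obtain ⟨k, hk⟩ := Subgroup.mem_zpowers_iff.1 (hz ⟨g, hg⟩)
  have hk' := congrArg Subtype.val hk
  simp only [Subgroup.coe_zpow] at hk'
  rw [← hk']
  exact zpow_mem (Subgroup.subset_normalClosure (Set.mem_singleton _)) k

end CfsgLib.SU3Pres
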