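import Cfsg.Agent.Lib.SU3Pres.Zhom

/-!
The unipotent group modulo its centre: a field homomorphism there makes the map to the model
injective on the conjugates of the unipotent generator.
-/

set_option autoImplicit false
set_option linter.unusedSectionVars false

namespace CfsgLib.SU3Pres

open Polynomial
open CfsgLib.PresentSL2 CfsgLib.BoundedPres

variable {G : Type} [Group G]

/-- The subgroup generated by the conjugates of the first generator. -/
def Kg {G : Type*} [Group G] (f : Fin 3 → G) : Subgroup G := Subgroup.closure (Set.range fun n => cj (f 1) (f 0) n)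

variable {F : Type*} [Field F] [Fintype F] {σ : F →+* F} {P : Par σ} (gs : Gens P)

/-- The normalizer of the image of the centre. -/
def Nz (Φ : Multiplicative (Par.K0 (σ := σ)) →* G) : Subgroup G :=
  Subgroup.normalizer (Φ.range : Set G)

theorem range_le_Nz (Φ : Multiplicative (Par.K0 (σ := σ)) →* G) : Φ.range ≤ Nz Φ := Subgroup.le_normalizer

theorem h_mem_Nz {Φ : Multiplicative (Par.K0 (σ := σ)) →* G} {f : Fin 3 → G}
    (hx : ∀ y, f 1 * Φ (Multiplicative.ofAdd y) * (f 1)⁻¹ = Φ (Multiplicative.ofAdd (P.x0K * y))) :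
    f 1 ∈ Nz Φ := by
  rw [Nz, Subgroup.mem_normalizer_iff]
  intro z
  constructor
  · rintro ⟨y, rfl⟩; exact ⟨_, (hx (Multiplicative.toAdd y)).symm⟩
  · rintro ⟨y, hy⟩
    have h0 : P.x0K ≠ 0 := fun h => P.x0_ne (congrArg Subtype.val h)
    refine ⟨Multiplicative.ofAdd (P.x0K⁻¹ * Multiplicative.toAdd y), ?_⟩
    have := hx (P.x0K⁻¹ * Multiplicative.toAdd y)
    rw [mul_inv_cancel_left₀ h0, ofAdd_toAdd, hy] at this
    exact (mul_left_cancel (mul_right_cancel this))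

theorem mem_Nz_of_commute {Φ : Multiplicative (Par.K0 (σ := σ)) →* G} {u : G}
    (h : ∀ y, Commute u (Φ (Multiplicative.ofAdd y))) : u ∈ Nz Φ := by
  rw [Nz, Subgroup.mem_normalizer_iff]
  intro z
  constructor
  · rintro ⟨y, rfl⟩; exact ⟨y, by rw [← ofAdd_toAdd y, (h _).eq, mul_inv_cancel_right]⟩
  · rintro ⟨y, hy⟩
    refine ⟨y, ?_⟩
    have e := (h (Multiplicative.toAdd y)).eq
    rw [ofAdd_toAdd, hy] at e
    rw [hy]
    exact mul_left_cancel (e.trans (by group))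

/-- The quotient by the centre. -/
abbrev Qt (Φ : Multiplicative (Par.K0 (σ := σ)) →* G) : Type := Nz Φ ⧸ Φ.range.subgroupOf (Nz Φ)

instance (Φ : Multiplicative (Par.K0 (σ := σ)) →* G) : (Φ.range.subgroupOf (Nz Φ)).Normal :=
  Subgroup.normal_in_normalizer

/-- Equal modulo the centre. -/
theorem mk_eq_of_eq_mul {Φ : Multiplicative (Par.K0 (σ := σ)) →* G} {A B : Nz Φ} {z : G}
    (hz : z ∈ Φ.range) (h : (A : G) = z * B) : (QuotientGroup.mk A : Qt Φ) = QuotientGroup.mk B := by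
  have hA : A = ⟨z, range_le_Nz Φ hz⟩ * B := Subtype.ext h
  rw [hA, QuotientGroup.mk_mul, (QuotientGroup.eq_one_iff _).2 (by exact hz), one_mul]

theorem coe_cj {H : Subgroup G} (a u : H) (n : ℕ) : ((cj a u n : H) : G) = cj (a : G) u n :=
  map_cj H.subtype a u n

theorem coe_ev {H : Subgroup G} (a u : H) (Q : ℤ[X]) : ((ev a u Q : H) : G) = ev (a : G) u Q :=
  map_ev H.subtype a u Q

theorem mk_cj {H : Subgroup G} {N : Subgroup H} [N.Normal] (a u : H) (n : ℕ) :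
    (QuotientGroup.mk (cj a u n) : H ⧸ N) = cj (QuotientGroup.mk a : H ⧸ N) (QuotientGroup.mk u) n :=
  map_cj (QuotientGroup.mk' N) a u n

theorem mk_ev {H : Subgroup G} {N : Subgroup H} [N.Normal] (a u : H) (Q : ℤ[X]) :
    (QuotientGroup.mk (ev a u Q) : H ⧸ N) = ev (QuotientGroup.mk a : H ⧸ N) (QuotientGroup.mk u) Q :=
  map_ev (QuotientGroup.mk' N) a u Q

/-- The map to the model is injective on the conjugates of the first generator. -/
theorem Gens.injOn {φ : G →* J3 σ} {f : Fin 3 → G} (hf : ∀ x, φ (f x) = gs.v x)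
    {Φ : Multiplicative (Par.K0 (σ := σ)) →* G} (h1 : Φ (Multiplicative.ofAdd 1) = FreeGroup.lift f wc)
    (hx : ∀ y, f 1 * Φ (Multiplicative.ofAdd y) * (f 1)⁻¹ = Φ (Multiplicative.ofAdd (P.x0K * y)))
    (hH : f 1 ∈ Nz Φ) (hU : f 0 ∈ Nz Φ)
    (hΦ : IsFieldHom (lam σ P.g) (QuotientGroup.mk ⟨f 1, hH⟩ : Qt Φ) (QuotientGroup.mk ⟨f 0, hU⟩)) :
    ∀ k ∈ Kg f, φ k = 1 → k = 1 := by
  obtain ⟨Ψ, hΨ1, hΨg⟩ := hΦ
  have key : ∀ k ∈ Kg f, ∃ hk : k ∈ Nz Φ, ∃ y : F,
      (QuotientGroup.mk (⟨k, hk⟩ : Nz Φ) : Qt Φ) = Ψ (Multiplicative.ofAdd y) ∧ HasA (φ k) y := by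
    intro k hk
    induction hk using Subgroup.closure_induction with
    | mem x hx' =>
      obtain ⟨n, rfl⟩ := hx'
      set kk : Nz Φ := cj ⟨f 1, hH⟩ ⟨f 0, hU⟩ n
      have hc : (kk : G) = cj (f 1) (f 0) n := coe_cj _ _ n
      have hkk : cj (f 1) (f 0) n ∈ Nz Φ := by rw [← hc]; exact kk.2
      refine ⟨hkk, lam σ P.g ^ n, ?_, ?_⟩
      · rw [show (⟨cj (f 1) (f 0) n, hkk⟩ : Nz Φ) = kk from Subtype.ext hc.symm, mk_cj,
          ← hΨ1]
        simp only [cj]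
        rw [shift_pow Ψ hΨg, mul_one]
      · obtain ⟨b, hb⟩ := gs.cj_u 1 n
        rw [pow_one, pow_one] at hb
        refine ⟨b, ?_⟩
        rw [map_cj, hf, hf]
        exact hb
    | one => exact ⟨one_mem _, 0, by rw [ofAdd_zero, map_one]; rfl, by rw [map_one]; exact HasA.one⟩
    | mul x y _ _ hx' hy' =>
      obtain ⟨h1', a, ha, ha'⟩ := hx'
      obtain ⟨h2', c, hc, hc'⟩ := hy'
      refine ⟨mul_mem h1' h2', a + c, ?_, by rw [map_mul]; exact ha'.mul hc'⟩
      rw [ofAdd_add, map_mul, ← ha, ← hc]; rfl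
    | inv x _ hx' =>
      obtain ⟨h1', a, ha, ha'⟩ := hx'
      refine ⟨inv_mem h1', -a, ?_, by rw [map_inv]; exact ha'.inv P.hσ⟩
      rw [ofAdd_neg, map_inv, ← ha]; rfl
  intro k hk h
  obtain ⟨hk', y, hy, hy'⟩ := key k hk
  rw [h] at hy'
  rw [hy'.unique HasA.one, ofAdd_zero, map_one, QuotientGroup.eq_one_iff] at hy
  obtain ⟨z, rfl⟩ : k ∈ Φ.range := hy
  rw [← ofAdd_toAdd z, gs.phi_Z hf h1 hx] at h
  rw [← ofAdd_toAdd z, zT_inj P h, ofAdd_zero, map_one]

end CfsgLib.SU3Pres
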