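import Cfsg.Agent.Lib.SU3Pres.Pres
import Cfsg.Agent.Lib.Classical.Herm.Std

/-!
Transport to the special unitary group of the standard Hermitian form.
-/

set_option autoImplicit false
set_option linter.unusedSectionVars false

namespace CfsgLib.SU3Pres

open Matrix
open CfsgLib.BoundedPres
open CfsgLib.Classical.Herm
open scoped MatrixGroups

variable {F : Type*} [Field F] [Fintype F] {q : ℕ}

theorem exists_par (hF : Fintype.card F = q ^ 2) (h2 : q ≠ 2) (h3 : q ≠ 3) (h5 : q ≠ 5) :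
    ∃ P : Par (qPow hF), P.q = q := by
  obtain ⟨p, e, hp, hc, hqe⟩ := exists_charP_pow hF
  obtain ⟨g, hg⟩ := IsCyclic.exists_generator (α := Fˣ)
  have ho : orderOf g = (q - 1) * (q + 1) := by
    rw [orderOf_eq_card_of_forall_mem_zpowers hg, natCard_units_sq hF]
  have he : 0 < e := by
    rcases Nat.eq_zero_or_pos e with rfl | h
    · have := two_le_of_card hF
      simp at hqe; omega
    · exact h
  exact ⟨{ q := q, p := p, e := e, hp := hp, charP := hc, hqe := hqe, he := he, card := hF,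
           conj := fun x => qPow_apply hF x, g := (g : F),
           g_iff := fun n => by
            rw [← Units.val_pow_eq_pow_val, Units.val_eq_one, ← orderOf_dvd_iff_pow_eq_one, ho]
           g_surj := fun y hy => by
            obtain ⟨n, hn⟩ := (mem_powers_iff_mem_zpowers).2 (hg (Units.mk0 y hy))
            exact ⟨n, by rw [← Units.val_pow_eq_pow_val]; exact (congrArg Units.val hn).symm⟩
           q2 := h2, q3 := h3, q5 := h5 }, rfl⟩

/-- The special unitary group of the standard form is that of the antidiagonal form. -/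
theorem nonempty_equiv (hF : Fintype.card F = q ^ 2) :
    Nonempty (Cfsg.SU 3 F q ≃* J3 (qPow hF)) := by
  obtain ⟨e, f, p⟩ := exists_pair_std hF (le_refl 3)
  obtain ⟨y, hye, hyf, hyy⟩ := exists_unit_orth (big_std hF (le_refl 3)) p
  set H := stdHerm hF 3
  set M : Matrix (Fin 3) (Fin 3) F := Matrix.of fun i j => ![e, y, f] j i with hMdef
  have hcol : ∀ x : Fin 3 → F, M *ᵥ x = x 0 • e + x 1 • y + x 2 • f := by
    intro x; ext i
    simp [hMdef, Matrix.mulVec, dotProduct, Fin.sum_univ_three]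
    ring
  have hM : ∀ x z : Fin 3 → F, H.h (M *ᵥ x) (M *ᵥ z) = jForm (qPow hF) x z := by
    intro x z
    have hc : ∀ a, H.conj a = qPow hF a := fun a => rfl
    rw [hcol, hcol]
    simp only [H.add_left, H.add_right, H.smul_left, H.smul_right, p.1, p.2.1, p.2.2,
      HermSpace.h_comm_one H p.2.2, hye, hyf, hyy, HermSpace.h_comm_zero H hye,
      HermSpace.h_comm_zero H hyf, hc, jForm]
    ring
  have hdet : M.det ≠ 0 := by
    intro h0
    obtain ⟨x, hx0, hx⟩ := Matrix.exists_mulVec_eq_zero_iff.2 h0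
    refine hx0 (funext fun i => ?_)
    have h2 := hM x (Pi.single 2 1)
    have h1 := hM x (Pi.single 1 1)
    have h0' := hM x (Pi.single 0 1)
    rw [hx, H.zero_left] at h2 h1 h0'
    simp [jForm, zero_pow (show q ≠ 0 by have := two_le_of_card hF; omega)] at h2 h1 h0'
    fin_cases i
    · exact h2.symm
    · exact h1.symm
    · exact h0'.symm
  have hu : IsUnit M.det := isUnit_iff_ne_zero.2 hdet
  have hMN : M * M⁻¹ = 1 := Matrix.mul_nonsing_inv M hu
  have hNM : M⁻¹ * M = 1 := Matrix.nonsing_inv_mul M hu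
  have hdd : M.det * (M⁻¹).det = 1 := by rw [← Matrix.det_mul, hMN, Matrix.det_one]
  have hN : ∀ u v : Fin 3 → F, jForm (qPow hF) (M⁻¹ *ᵥ u) (M⁻¹ *ᵥ v) = H.h u v := by
    intro u v
    rw [← hM, mulVec_mulVec, mulVec_mulVec, hMN, one_mulVec, one_mulVec]
  refine ⟨{
    toFun := fun s => ⟨⟨M⁻¹ * ((s : SL(3, F)) : Matrix (Fin 3) (Fin 3) F) * M, by
        rw [det_mul, det_mul, (s : SL(3, F)).2, mul_one, mul_comm, hdd]⟩, fun x z => ?_⟩
    invFun := fun m => ⟨⟨M * mat m * M⁻¹, by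
        rw [det_mul, det_mul, show (mat m).det = 1 from m.1.2, mul_one, hdd]⟩, fun u v => ?_⟩
    left_inv := fun s => ?_
    right_inv := fun m => ?_
    map_mul' := fun s r => ?_ }⟩
  · show jForm (qPow hF) ((M⁻¹ * _ * M) *ᵥ x) ((M⁻¹ * _ * M) *ᵥ z) = _
    rw [← mulVec_mulVec x, ← mulVec_mulVec z, ← mulVec_mulVec _ M⁻¹, ← mulVec_mulVec _ M⁻¹, hN]
    exact (s.2 _ _).trans (hM x z)
  · show H.h ((M * mat m * M⁻¹) *ᵥ u) ((M * mat m * M⁻¹) *ᵥ v) = H.h u v
    rw [← mulVec_mulVec u, ← mulVec_mulVec v, ← mulVec_mulVec _ M, ← mulVec_mulVec _ M, hM,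
      mat_preserves, hN]
  · apply Subtype.ext; apply Subtype.ext
    show M * (M⁻¹ * _ * M) * M⁻¹ = _
    simp only [← Matrix.mul_assoc, hMN, Matrix.one_mul]
    rw [Matrix.mul_assoc, hMN, Matrix.mul_one]
  · apply mat_injective
    show M⁻¹ * (M * mat m * M⁻¹) * M = mat m
    simp only [← Matrix.mul_assoc, hNM, Matrix.one_mul]
    rw [Matrix.mul_assoc, hNM, Matrix.mul_one]
  · apply mat_injective
    show M⁻¹ * _ * M = (M⁻¹ * _ * M) * (M⁻¹ * _ * M)
    rw [Subgroup.coe_mul, Matrix.SpecialLinearGroup.coe_mul]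
    simp only [← Matrix.mul_assoc]
    rw [Matrix.mul_assoc (_ * _) M M⁻¹, hMN, Matrix.mul_one]

/-- Bounded presentations of `SU₃(q)` and `PSU₃(q)`. -/
theorem presentations (hF : Fintype.card F = q ^ 2) (h2 : q ≠ 2) (h3 : q ≠ 3) (h5 : q ≠ 5) :
    (∃ rels : Finset (FreeGroup (Fin 3)), rels.card ≤ 22 ∧
      Nonempty (PresentedGroup (↑rels : Set (FreeGroup (Fin 3))) ≃* ↥(Cfsg.SU 3 F q))) ∧
    (∃ rels : Finset (FreeGroup (Fin 3)), rels.card ≤ 23 ∧
      Nonempty (PresentedGroup (↑rels : Set (FreeGroup (Fin 3))) ≃* Cfsg.PSU 3 F q)) := by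
  obtain ⟨P, -⟩ := exists_par hF h2 h3 h5
  obtain ⟨E⟩ := nonempty_equiv hF
  refine ⟨?_, ?_⟩
  · obtain ⟨rels, hc, ⟨e⟩⟩ := (presOn_model P).exists_iso
    exact ⟨rels, hc, ⟨e.trans E.symm⟩⟩
  · obtain ⟨z, hz⟩ := center_normalClosure P
    obtain ⟨rels, hc, ⟨e⟩⟩ := ((presOn_model P).quotient _ z hz).exists_iso
    have hmap : (Subgroup.center (Cfsg.SU 3 F q)).map (E : Cfsg.SU 3 F q →* J3 (qPow hF)) =
        Subgroup.center (J3 (qPow hF)) := by
      ext b
      constructor
      · rintro ⟨a, ha, rfl⟩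
        refine Subgroup.mem_center_iff.2 fun c => ?_
        obtain ⟨c, rfl⟩ := E.surjective c
        show E c * E a = E a * E c
        rw [← map_mul, ← map_mul, Subgroup.mem_center_iff.1 ha]
      · intro hb
        refine ⟨E.symm b, Subgroup.mem_center_iff.2 fun a => E.injective ?_, E.apply_symm_apply b⟩
        rw [map_mul, map_mul, E.apply_symm_apply]
        exact Subgroup.mem_center_iff.1 hb _
    exact ⟨rels, hc, ⟨e.trans (QuotientGroup.congr _ _ E hmap).symm⟩⟩

end CfsgLib.SU3Pres
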