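import Cfsg.Agent.Lib.SU3Pres.Quot

/-!
Six relations for the unipotent group when the cube of a norm-one element generates the field.
-/

set_option autoImplicit false
set_option linter.unusedSectionVars false

namespace CfsgLib.SU3Pres

open Polynomial
open CfsgLib.PresentSL2 CfsgLib.BoundedPres

variable {F : Type*} [Field F] [Fintype F] {σ : F →+* F} {P : Par σ} (gs : Gens P)

/-- Relations for the unipotent group, the generic case. -/
theorem Gens.exists_U_generic (h8 : P.q ≠ 8) : ∃ L : List (FreeGroup (Fin 3)), L.length ≤ 6 ∧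
    Kills gs.v L ∧ ∀ (G : Type) [Group G] (φ : G →* J3 σ) (f : Fin 3 → G), (∀ x, φ (f x) = gs.v x) →
      IsFieldHom P.x0K (f 1) (FreeGroup.lift f wc) → Kills f L →
      ∀ k ∈ Kg f, φ k = 1 → k = 1 := by
  haveI := Fact.mk P.hp
  haveI := P.charP
  obtain ⟨D0⟩ := P.polyData_K0 P.x0K fun d hd hde => P.x0_gen hd hde
  obtain ⟨D⟩ := P.polyData_eps h8
  obtain ⟨j, hjl, hjn⟩ := P.exists_j
  obtain ⟨Pg, hPg⟩ := D.surj (lam σ P.g)
  simp only at hPg
  set a : FreeGroup (Fin 3) := fH ^ (P.q - 1) with ha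
  set w' : FreeGroup (Fin 3) := cj a fU 1 with hw'
  have hu : HasA (FreeGroup.lift gs.v fU) 1 := ⟨gs.z1, by rw [Gens.lift_fU]; exact gs.hu⟩
  have hw : HasA (FreeGroup.lift gs.v w') P.eps := by
    rw [hw', ha, map_cj, map_pow, Gens.lift_fH, Gens.lift_fU, ← P.lam_g_pow]
    obtain ⟨b, hb⟩ := gs.cj_u (P.q - 1) 1
    rw [pow_one] at hb
    exact ⟨b, hb⟩
  have hb1 : HasA (FreeGroup.lift gs.v (fH ^ j * fU * (fH ^ j)⁻¹)) (1 + P.eps) := by
    simp only [map_mul, map_inv, map_pow, Gens.lift_fH, Gens.lift_fU]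
    have := (gs.hh.pow j).conj_U P.hσ gs.hu
    rw [mul_one, hjl] at this
    exact ⟨_, this⟩
  have huw : HasA (FreeGroup.lift gs.v (fU * w')) (1 + P.eps) := by rw [map_mul]; exact hu.mul hw
  have hwu : HasA (FreeGroup.lift gs.v (w' * fU)) (P.eps + 1) := by rw [map_mul]; exact hw.mul hu
  have hup : HasA (FreeGroup.lift gs.v (fU ^ P.p)) (P.p • (1 : F)) := by rw [map_pow]; exact hu.pow _
  have hone : HasA (FreeGroup.lift gs.v 1) (0 : F) := by rw [map_one]; exact HasA.one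
  have hevM : HasA (FreeGroup.lift gs.v (ev a fU D.M)) (0 : F) := by
    rw [ha, map_ev, map_pow, Gens.lift_fH, Gens.lift_fU]
    have := gs.hasA_ev (P.q - 1) D.M
    rwa [P.lam_g_pow, D.root] at this
  have hevg : HasA (FreeGroup.lift gs.v (ev a fU Pg)) (lam σ P.g) := by
    rw [ha, map_ev, map_pow, Gens.lift_fH, Gens.lift_fU]
    have := gs.hasA_ev (P.q - 1) Pg
    rwa [P.lam_g_pow, hPg] at this
  have hhu : HasA (FreeGroup.lift gs.v (fH * fU * fH⁻¹)) (lam σ P.g) := by
    simp only [map_mul, map_inv, Gens.lift_fH, Gens.lift_fU]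
    have := gs.hh.conj_U P.hσ gs.hu
    rw [mul_one] at this
    exact ⟨_, this⟩
  obtain ⟨Q1, hQ1⟩ := gs.exists_zword (D := D0) hb1 huw rfl
  obtain ⟨Q2, hQ2⟩ := gs.exists_zword (D := D0) huw hwu (add_comm _ _)
  obtain ⟨Q3, hQ3⟩ := gs.exists_zword (D := D0) hup hone (P.char_nsmul 1)
  obtain ⟨Q4, hQ4⟩ := gs.exists_zword (D := D0) hevM hone rfl
  obtain ⟨Q5, hQ5⟩ := gs.exists_zword (D := D0) hhu hevg rfl
  let L : List (FreeGroup (Fin 3)) := [eqw (fU * wc) (wc * fU),
    eqw (fH ^ j * fU * (fH ^ j)⁻¹) (ev fH wc Q1 * (fU * w')),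
    eqw (fU * w') (ev fH wc Q2 * (w' * fU)), eqw (fU ^ P.p) (ev fH wc Q3 * 1),
    eqw (ev a fU D.M) (ev fH wc Q4 * 1), eqw (fH * fU * fH⁻¹) (ev fH wc Q5 * ev a fU Pg)]
  refine ⟨L, le_rfl, fun w hw => ?_, ?_⟩
  · simp only [L, List.mem_cons, List.not_mem_nil, or_false] at hw
    rcases hw with rfl | rfl | rfl | rfl | rfl | rfl
    · rw [lift_eqw, map_mul, map_mul, Gens.lift_fU]
      exact (gs.hu.commute_central gs.wc_val).eq
    all_goals rw [lift_eqw]
    exacts [hQ1, hQ2, hQ3, hQ4, hQ5]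
  · intro G _ φ f hf hΦ hL
    obtain ⟨Φ, h1, hx⟩ := hΦ
    have lH : FreeGroup.lift f fH = f 1 := by simp [fH]
    have lU : FreeGroup.lift f fU = f 0 := by simp [fU]
    have lz : ∀ Q, FreeGroup.lift f (ev fH wc Q) = Φ (Multiplicative.ofAdd (aeval P.x0K Q)) := by
      intro Q
      rw [map_ev, lH, ev_of_field_hom Φ h1 hx]
    have e : ∀ {A B}, eqw A B ∈ L → FreeGroup.lift f A = FreeGroup.lift f B := fun h =>
      (lift_eqw f _ _).1 (hL _ h)
    have e0 := e (A := fU * wc) (B := wc * fU) (by simp [L])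
    have e1 := e (A := fH ^ j * fU * (fH ^ j)⁻¹) (B := ev fH wc Q1 * (fU * w')) (by simp [L])
    have e2 := e (A := fU * w') (B := ev fH wc Q2 * (w' * fU)) (by simp [L])
    have e3 := e (A := fU ^ P.p) (B := ev fH wc Q3 * 1) (by simp [L])
    have e4 := e (A := ev a fU D.M) (B := ev fH wc Q4 * 1) (by simp [L])
    have e5 := e (A := fH * fU * fH⁻¹) (B := ev fH wc Q5 * ev a fU Pg) (by simp [L])
    clear e
    simp only [map_mul, map_inv, map_pow, map_one, mul_one, lz, lH, lU, hw', ha, map_cj, map_ev]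
      at e0 e1 e2 e3 e4 e5
    rw [← h1] at e0
    have hshift := shift_pow Φ hx
    have hxq : P.x0K ^ (P.q - 1) = 1 :=
      Subtype.ext (by rw [SubmonoidClass.coe_pow]; exact (P.x0_pow_eq_one _).2 dvd_rfl)
    -- the first generator commutes with the whole centre
    have hcomm : ∀ y, Commute (f 0) (Φ (Multiplicative.ofAdd y)) := by
      let S : AddSubgroup (Par.K0 (σ := σ)) :=
        { carrier := {y | Commute (f 0) (Φ (Multiplicative.ofAdd y))}
          zero_mem' := by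
            show Commute _ _
            rw [ofAdd_zero, map_one]; exact Commute.one_right _
          add_mem' := fun {y z} hy hz => by
            show Commute _ _
            rw [ofAdd_add, map_mul]; exact hy.mul_right hz
          neg_mem' := fun {y} hy => by
            show Commute _ _
            rw [ofAdd_neg, map_inv]; exact hy.inv_right }
      obtain ⟨Dμ⟩ := P.polyData_K0 ((P.x0K ^ j)⁻¹) fun d hd hde => by
        rw [Subfield.coe_inv, SubmonoidClass.coe_pow, show ((P.x0K : F)) = P.x0 from rfl, hjn]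
        exact P.s0_gen h8 hd hde
      have hS : S = ⊤ := addSubgroup_eq_top Dμ S e0 fun y hy => by
        show Commute _ _
        have hy' : Commute (f 0) (Φ (Multiplicative.ofAdd y)) := hy
        have h2 : Commute (cj (f 1 ^ (P.q - 1)) (f 0) 1) (Φ (Multiplicative.ofAdd y)) := by
          have := hy'.map (MulAut.conj (f 1 ^ (P.q - 1))).toMonoidHom
          change Commute (_ * f 0 * _) (_ * Φ _ * _) at this
          rw [hshift, hxq, one_mul] at this
          rwa [cj, pow_one]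
        have h3 : Commute (f 1 ^ j * f 0 * (f 1 ^ j)⁻¹) (Φ (Multiplicative.ofAdd y)) := by
          rw [e1]
          exact ((Commute.all _ _).map Φ).mul_left (hy'.mul_left h2)
        have h4 := h3.map (MulAut.conj (f 1 ^ j)⁻¹).toMonoidHom
        change Commute (_ * (f 1 ^ j * f 0 * (f 1 ^ j)⁻¹) * _) (_ * Φ _ * _) at h4
        have h5 := hshift j ((P.x0K ^ j)⁻¹ * y)
        rw [mul_inv_cancel_left₀ (pow_ne_zero _ fun h => P.x0_ne (congrArg Subtype.val h))] at h5
        rw [← h5] at h4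
        simpa [mul_assoc] using h4
      intro y
      exact hS.ge (AddSubgroup.mem_top y)
    have hU : f 0 ∈ Nz Φ := mem_Nz_of_commute hcomm
    have hH : f 1 ∈ Nz Φ := h_mem_Nz hx
    set U : Nz Φ := ⟨f 0, hU⟩
    set H : Nz Φ := ⟨f 1, hH⟩
    have hzr : ∀ Q : ℤ[X], Φ (Multiplicative.ofAdd (aeval P.x0K Q)) ∈ Φ.range := fun Q => ⟨_, rfl⟩
    have q1 := mk_eq_of_eq_mul (Φ := Φ) (A := H ^ j * U * (H ^ j)⁻¹) (B := U * cj (H ^ (P.q - 1)) U 1)
      (hzr Q1) (by simpa [coe_cj] using e1)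
    have q2 := mk_eq_of_eq_mul (Φ := Φ) (A := U * cj (H ^ (P.q - 1)) U 1) (B := cj (H ^ (P.q - 1)) U 1 * U)
      (hzr Q2) (by simpa [coe_cj] using e2)
    have q3 := mk_eq_of_eq_mul (Φ := Φ) (A := U ^ P.p) (B := 1) (hzr Q3) (by simpa using e3)
    have q4 := mk_eq_of_eq_mul (Φ := Φ) (A := ev (H ^ (P.q - 1)) U D.M) (B := 1) (hzr Q4)
      (by simpa [coe_ev] using e4)
    have q5 := mk_eq_of_eq_mul (Φ := Φ) (A := H * U * H⁻¹) (B := ev (H ^ (P.q - 1)) U Pg) (hzr Q5)
      (by simpa [coe_ev] using e5)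
    simp only [QuotientGroup.mk_mul, QuotientGroup.mk_inv, QuotientGroup.mk_pow, QuotientGroup.mk_one,
      mk_cj, mk_ev] at q1 q2 q3 q4 q5
    obtain ⟨Ψ⟩ := nonempty_polyHom _ _ (commute_cj ((Commute.refl (QuotientGroup.mk H : Qt Φ)).pow_pow
      (P.q - 1) j) q2 q1)
    exact gs.injOn hf h1 hx hH hU (field_hom D (P.q - 1) Ψ q3 q4 Pg hPg q5)

end CfsgLib.SU3Pres
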