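import Cfsg.Agent.Lib.SU3Pres.Quot

/-!
The unipotent group of the model is generated by the conjugates of the first generator, so its
elements are given by words in these conjugates; the three generators generate.
-/

set_option autoImplicit false
set_option linter.unusedSectionVars false

namespace CfsgLib.SU3Pres

open Polynomial
open CfsgLib.PresentSL2 CfsgLib.BoundedPres

theorem map_Kg {G G' : Type*} [Group G] [Group G'] (ψ : G →* G') (f : Fin 3 → G) :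
    (Kg f).map ψ = Kg fun x => ψ (f x) := by
  rw [Kg, Kg, MonoidHom.map_closure, ← Set.range_comp]
  congr 1
  exact congrArg Set.range (funext fun n => map_cj ψ _ _ n)

theorem cj_mem_Kg {G : Type*} [Group G] (f : Fin 3 → G) (n : ℕ) : cj (f 1) (f 0) n ∈ Kg f :=
  Subgroup.subset_closure ⟨n, rfl⟩

theorem f0_mem_Kg {G : Type*} [Group G] (f : Fin 3 → G) : f 0 ∈ Kg f := by
  simpa [cj_zero] using cj_mem_Kg f 0

theorem conj_pow_mem_Kg {G : Type*} [Group G] (f : Fin 3 → G) (i : ℕ) {k : G} (hk : k ∈ Kg f) :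
    f 1 ^ i * k * (f 1 ^ i)⁻¹ ∈ Kg f := by
  induction hk using Subgroup.closure_induction with
  | mem x hx =>
    obtain ⟨n, rfl⟩ := hx
    rw [← cj_add]; exact cj_mem_Kg f _
  | one => simp [one_mem]
  | mul x y _ _ hx hy =>
    rw [show f 1 ^ i * (x * y) * (f 1 ^ i)⁻¹ =
      (f 1 ^ i * x * (f 1 ^ i)⁻¹) * (f 1 ^ i * y * (f 1 ^ i)⁻¹) by group]
    exact mul_mem hx hy
  | inv x _ hx =>
    rw [show f 1 ^ i * x⁻¹ * (f 1 ^ i)⁻¹ = (f 1 ^ i * x * (f 1 ^ i)⁻¹)⁻¹ by group]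
    exact inv_mem hx

variable {F : Type*} [Field F] [Fintype F] {σ : F →+* F} {P : Par σ} (gs : Gens P)

theorem Gens.Kg_isU {k : J3 σ} (hk : k ∈ Kg gs.v) : ∃ a b, IsU k a b := by
  induction hk using Subgroup.closure_induction with
  | mem x hx =>
    obtain ⟨n, rfl⟩ := hx
    obtain ⟨b, hb⟩ := gs.cj_u 1 n
    rw [pow_one] at hb
    exact ⟨_, b, hb⟩
  | one => exact ⟨_, _, IsU.one⟩
  | mul x y _ _ hx hy =>
    obtain ⟨a, b, h⟩ := hx
    obtain ⟨c, d, h'⟩ := hy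
    exact ⟨_, _, h.mul h'⟩
  | inv x _ hx =>
    obtain ⟨a, b, h⟩ := hx
    exact ⟨_, _, h.inv P.hσ⟩

theorem Gens.wc_mem : FreeGroup.lift gs.v wc ∈ Kg gs.v := by
  have hu : gs.u ∈ Kg gs.v := f0_mem_Kg gs.v
  have hv : gs.h * gs.u * gs.h⁻¹ ∈ Kg gs.v := by
    have := conj_pow_mem_Kg gs.v 1 hu
    rwa [pow_one] at this
  simp only [wc, wv, map_mul, map_inv, Gens.lift_fU, Gens.lift_fH]
  exact mul_mem (mul_mem (mul_mem hu hv) (inv_mem hu)) (inv_mem hv)

/-- Every unipotent element lies in the subgroup generated by the conjugates of the first generator. -/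
theorem Gens.exists_mem_Kg {a b : F} (hv : Valid σ a b) : ∃ k ∈ Kg gs.v, IsU k a b := by
  obtain ⟨D0⟩ := P.polyData_K0 P.x0K fun d hd hde => P.x0_gen hd hde
  obtain ⟨D⟩ := P.polyData_lam
  let A : AddSubgroup F :=
    { carrier := {a | ∃ k ∈ Kg gs.v, HasA k a}
      zero_mem' := ⟨1, one_mem _, HasA.one⟩
      add_mem' := fun {x y} ⟨k, hk, hx⟩ ⟨l, hl, hy⟩ => ⟨k * l, mul_mem hk hl, hx.mul hy⟩
      neg_mem' := fun {x} ⟨k, hk, hx⟩ => ⟨k⁻¹, inv_mem hk, hx.inv P.hσ⟩ }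
  have hA : A = ⊤ := addSubgroup_eq_top D A ⟨gs.u, f0_mem_Kg gs.v, _, gs.hu⟩ fun y ⟨k, hk, c, hc⟩ =>
    ⟨gs.h * k * gs.h⁻¹, by simpa [Gens.v] using conj_pow_mem_Kg gs.v 1 hk, _, gs.hh.conj_U P.hσ hc⟩
  let B : AddSubgroup (Par.K0 (σ := σ)) :=
    { carrier := {y | zT P (Multiplicative.ofAdd y) ∈ Kg gs.v}
      zero_mem' := by show zT P (Multiplicative.ofAdd 0) ∈ Kg gs.v; rw [ofAdd_zero, map_one]; exact one_mem _
      add_mem' := fun {x y} hx hy => by show zT P (Multiplicative.ofAdd (x + y)) ∈ Kg gs.v; rw [ofAdd_add, map_mul]; exact mul_mem hx hy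
      neg_mem' := fun {x} hx => by show zT P (Multiplicative.ofAdd (-x)) ∈ Kg gs.v; rw [ofAdd_neg, map_inv]; exact inv_mem hx }
  have hB : B = ⊤ := addSubgroup_eq_top D0 B (by show zT P (Multiplicative.ofAdd 1) ∈ Kg gs.v; rw [gs.zT_one]; exact gs.wc_mem)
    fun y hy => by
      show zT P (Multiplicative.ofAdd (P.x0K * y)) ∈ Kg gs.v
      rw [← gs.zT_shift]
      simpa [Gens.v] using conj_pow_mem_Kg gs.v 1 hy
  obtain ⟨k, hk, c, hc⟩ := hA.ge (AddSubgroup.mem_top a)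
  have hv' := hc.valid P.hσ
  unfold Valid at hv hv'
  have hfix : σ ((b - c) / P.delta) = (b - c) / P.delta := by
    rw [map_div₀, P.delta_skew, map_sub, show σ b - σ c = -(b - c) by linear_combination hv - hv',
      neg_div_neg_eq]
  refine ⟨zT P (Multiplicative.ofAdd ⟨_, Par.mem_K0.2 hfix⟩) * k,
    mul_mem (hB.ge (AddSubgroup.mem_top _)) hk, ?_⟩
  have := (zT_spec P ⟨_, Par.mem_K0.2 hfix⟩).mul hc
  rw [zero_add, zero_mul, sub_zero, show ((⟨(b - c) / P.delta, Par.mem_K0.2 hfix⟩ : Par.K0 (σ := σ)) : F) *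
    P.delta = b - c from div_mul_cancel₀ _ P.delta_ne, sub_add_cancel] at this
  exact this

/-- Words in the conjugates of the first generator for all unipotent elements. -/
theorem Gens.exists_word_U {a b : F} (hv : Valid σ a b) :
    ∃ W : FreeGroup (Fin 3), IsU (FreeGroup.lift gs.v W) a b ∧ W ∈ Kg (FreeGroup.of : Fin 3 → _) := by
  obtain ⟨k, hk, hku⟩ := gs.exists_mem_Kg hv
  have h := map_Kg (FreeGroup.lift gs.v) (FreeGroup.of : Fin 3 → _)
  simp only [FreeGroup.lift_apply_of] at h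
  rw [← h] at hk
  obtain ⟨W, hW, rfl⟩ := hk
  exact ⟨W, hku, hW⟩

theorem lift_mem_Kg {G : Type*} [Group G] (f : Fin 3 → G) {W : FreeGroup (Fin 3)}
    (hW : W ∈ Kg (FreeGroup.of : Fin 3 → _)) : FreeGroup.lift f W ∈ Kg f := by
  have h := map_Kg (FreeGroup.lift f) (FreeGroup.of : Fin 3 → _)
  simp only [FreeGroup.lift_apply_of] at h
  exact h ▸ ⟨W, hW, rfl⟩

/-- The generators generate. -/
theorem Gens.closure_eq_top : Subgroup.closure (Set.range gs.v) = ⊤ := by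
  set H := Subgroup.closure (Set.range gs.v) with hH
  have hv : ∀ i, gs.v i ∈ H := fun i => Subgroup.subset_closure ⟨i, rfl⟩
  have hK : Kg gs.v ≤ H := by
    rw [Kg, Subgroup.closure_le]
    rintro _ ⟨n, rfl⟩
    exact mul_mem (mul_mem (pow_mem (hv 1) n) (hv 0)) (inv_mem (pow_mem (hv 1) n))
  have hU : ∀ {m a b}, IsU m a b → m ∈ H := fun {m a b} h => by
    obtain ⟨k, hk, hku⟩ := gs.exists_mem_Kg (h.valid P.hσ)
    rw [h.ext hku rfl rfl]; exact hK hk
  have hD : ∀ {m k}, IsH m k → m ∈ H := fun {m k} h => by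
    obtain ⟨n, hn⟩ := P.g_surj k h.ne_zero
    rw [h.ext (gs.hh.pow n) hn]; exact pow_mem (hv 1) n
  have hB : ∀ m, mat m 1 0 = 0 ∧ mat m 2 0 = 0 → m ∈ H := fun m hm => by
    obtain ⟨u, h, a, b, k, hu, hh, rfl⟩ := exists_borel P.hσ m hm.1 hm.2
    exact mul_mem (hU hu) (hD hh)
  rw [eq_top_iff]
  intro m _
  by_cases hm : mat m 1 0 = 0 ∧ mat m 2 0 = 0
  · exact hB m hm
  · obtain ⟨u, h, a, b, k, m', hu, hh, hm', rfl⟩ := exists_cell P.hσ gs.ht m hm
    exact mul_mem (mul_mem (mul_mem (hU hu) (hD hh)) (hv 2)) (hB m' hm')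

end CfsgLib.SU3Pres
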