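import Cfsg.Agent.Lib.SU3Pres.Basic

/-!
The centre of the unipotent group in a group satisfying four relations.
-/

set_option autoImplicit false
set_option linter.unusedSectionVars false

namespace CfsgLib.SU3Pres

open Polynomial
open CfsgLib.PresentSL2 CfsgLib.BoundedPres

variable {F : Type*} [Field F] [Fintype F] {σ : F →+* F} {P : Par σ} (gs : Gens P)

/-- Relations for the centre give the field homomorphism. -/
theorem Gens.exists_Z : ∃ L : List (FreeGroup (Fin 3)), L.length ≤ 4 ∧ Kills gs.v L ∧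
    ∀ (G : Type) [Group G] (φ : G →* J3 σ) (f : Fin 3 → G), (∀ x, φ (f x) = gs.v x) → Kills f L →
      IsFieldHom P.x0K (f 1) (FreeGroup.lift f wc) := by
  haveI := Fact.mk P.hp
  haveI := P.charP
  haveI : CharP (Par.K0 (σ := σ)) P.p :=
    ((Par.K0 (σ := σ)).subtype.charP_iff Subtype.val_injective P.p).2 P.charP
  obtain ⟨D⟩ := P.polyData_K0 P.x0K fun d hd hde => P.x0_gen hd hde
  obtain ⟨j, hj⟩ := P.exists_b
  let L : List (FreeGroup (Fin 3)) :=
    [eqw (wc * cj fH wc 1) (cj fH wc 1 * wc), eqw (fH ^ j * wc * (fH ^ j)⁻¹) (wc * cj fH wc 1),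
      wc ^ P.p, ev fH wc D.M]
  have hc0 : FreeGroup.lift gs.v wc = zT P (Multiplicative.ofAdd 1) := gs.zT_one.symm
  have hshift := shift_pow (zT P) gs.zT_shift
  have hc1 : FreeGroup.lift gs.v (cj fH wc 1) = zT P (Multiplicative.ofAdd P.x0K) := by
    rw [map_cj, Gens.lift_fH, hc0]
    simp only [cj, hshift]
    simp
  refine ⟨L, le_rfl, fun w hw => ?_, ?_⟩
  · simp only [L, List.mem_cons, List.not_mem_nil, or_false] at hw
    rcases hw with rfl | rfl | rfl | rfl
    · rw [lift_eqw, map_mul, map_mul, hc1, hc0]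
      exact ((Commute.all _ _).map (zT P)).eq
    · rw [lift_eqw, map_mul, map_mul, map_mul, map_inv, map_pow, Gens.lift_fH, hc1, hc0, hshift,
        ← map_mul, ← ofAdd_add, mul_one]
      congr 2
      exact Subtype.ext hj
    · rw [map_pow, hc0, ← map_pow, ← ofAdd_nsmul,
        show P.p • (1 : Par.K0 (σ := σ)) = 0 by rw [nsmul_eq_mul, CharP.cast_eq_zero, zero_mul],
        ofAdd_zero, map_one]
    · rw [gs.ev_wc, D.root, ofAdd_zero, map_one]
  · intro G _ φ f hf hL
    have lf : FreeGroup.lift f fH = f 1 := by simp [fH]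
    have e1 := (lift_eqw f _ _).1 (hL _ (List.mem_cons_self))
    have e2 := (lift_eqw f _ _).1 (hL _ (List.mem_cons_of_mem _ List.mem_cons_self))
    have e3 := hL (wc ^ P.p) (by simp [L])
    have e4 := hL (ev fH wc D.M) (by simp [L])
    simp only [map_mul, map_inv, map_pow, map_cj, map_ev, lf] at e1 e2 e3 e4
    generalize FreeGroup.lift f wc = c at e1 e2 e3 e4
    obtain ⟨Ψ⟩ := nonempty_polyHom (f 1 ^ 1) c
      (by simp only [pow_one]; exact commute_cj ((Commute.refl (f 1)).pow_right j) e1 e2)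
    refine field_hom D 1 Ψ e3 (by rw [pow_one]; exact e4) X (aeval_X _) ?_
    rw [Ψ.ev_eq, ← pow_one (X : ℤ[X]), Ψ.X_pow]
    simp [cj]

/-- The homomorphism on the centre lies over the model. -/
theorem Gens.phi_Z {G : Type} [Group G] {φ : G →* J3 σ} {f : Fin 3 → G} (hf : ∀ x, φ (f x) = gs.v x)
    {Φ : Multiplicative (Par.K0 (σ := σ)) →* G} (h1 : Φ (Multiplicative.ofAdd 1) = FreeGroup.lift f wc)
    (hx : ∀ y, f 1 * Φ (Multiplicative.ofAdd y) * (f 1)⁻¹ = Φ (Multiplicative.ofAdd (P.x0K * y)))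
    (y : Par.K0 (σ := σ)) : φ (Φ (Multiplicative.ofAdd y)) = zT P (Multiplicative.ofAdd y) := by
  obtain ⟨D⟩ := P.polyData_K0 P.x0K fun d hd hde => P.x0_gen hd hde
  obtain ⟨Q, rfl⟩ := D.surj y
  rw [← ev_of_field_hom Φ h1 hx, map_ev, hom_lift φ hf, hf]
  exact ev_of_field_hom (zT P) gs.zT_one gs.zT_shift Q

end CfsgLib.SU3Pres
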